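import Groth.Agent.Etalg.Milnor3
import Mathlib.RingTheory.Flat.Basic
import Mathlib.RingTheory.Flat.Equalizer
import Mathlib.RingTheory.Finiteness.ModuleFinitePresentation
import Mathlib.RingTheory.Flat.Stability
import Mathlib.RingTheory.IsTensorProduct

/-!
Milnor squares `B' = B ×_A A'`: the unit `L' → (B ⊗ L') ×_{A ⊗ L'} (A' ⊗ L')` of the glueing
adjunction, for an arbitrary `B'`-module `L'`.

* `smul_eq_zero_of_one_tmul_eq_zero`: the kernel is killed by `J = ker (B' → B)`.
* `exists_of_pair`: surjectivity.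
* `subsingleton_of_pair`, `finite_of_pair`, `flat_of_pair`, `finitePresentation_of_pair`: descent.
-/

set_option autoImplicit false
universe u v
open TensorProduct

namespace K364.MilnorPair

open Groth.Agent.Etalg.Milnor Groth.Agent.Etalg.Milnor2 Groth.Agent.Etalg.Milnor3

variable {B' B A' A : Type u} [CommRing B'] [CommRing B] [CommRing A'] [CommRing A]
  [Algebra B' B] [Algebra B' A'] [Algebra B A] [Algebra A' A] [Algebra B' A]
  [IsScalarTower B' B A] [IsScalarTower B' A' A]

/-- For `j ∈ ker (B' → B)` the map `A' → B'`, `a ↦ (0, j a)`. -/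
theorem exists_mulRight (hsq : EtMil.IsFibreSquare B' B A' A) (k : B')
    (hk : algebraMap B' B k = 0) : ∃ μ : A' →ₗ[B'] B', μ 1 = k := by
  have hkP : algebraMap A' A (algebraMap B' A' k) = 0 := by
    rw [← compat (B := B), hk, map_zero]
  have hex : ∀ s : A', ∃ d : B', algebraMap B' B d = 0 ∧
      algebraMap B' A' d = algebraMap B' A' k * s := by
    intro s
    refine exists_mem hsq 0 _ ?_
    rw [map_zero, map_mul, hkP, zero_mul]
  choose μ hμ1 hμ2 using hex
  refine ⟨
    { toFun := μ
      map_add' := fun x y => ext_of hsq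
        (by rw [map_add, hμ1, hμ1, hμ1, add_zero])
        (by rw [map_add, hμ2, hμ2, hμ2, mul_add])
      map_smul' := fun r x => ext_of hsq
        (by rw [RingHom.id_apply, smul_eq_mul, map_mul, hμ1, hμ1, mul_zero])
        (by rw [RingHom.id_apply, smul_eq_mul, map_mul, hμ2, hμ2, Algebra.smul_def]; ring) }, ?_⟩
  exact ext_of hsq (by
    change algebraMap B' B (μ 1) = _
    rw [hμ1, hk]) (by
    change algebraMap B' A' (μ 1) = _
    rw [hμ2, mul_one])

theorem smul_eq_zero_of_one_tmul_eq_zero (hsq : EtMil.IsFibreSquare B' B A' A)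
    {L' : Type v} [AddCommGroup L'] [Module B' L'] (l : L')
    (h2 : ((1 : A') ⊗ₜ[B'] l : A' ⊗[B'] L') = 0) (k : B') (hk : algebraMap B' B k = 0) :
    k • l = 0 := by
  obtain ⟨μ, hμ⟩ := exists_mulRight hsq k hk
  have h3 : (TensorProduct.lid B' L') (μ.rTensor L' ((1 : A') ⊗ₜ[B'] l)) = k • l := by
    rw [LinearMap.rTensor_tmul, TensorProduct.lid_tmul, hμ]
  rw [← h3, h2, map_zero, map_zero]

theorem subsingleton_of_pair (hsq : EtMil.IsFibreSquare B' B A' A)
    (L' : Type v) [AddCommGroup L'] [Module B' L']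
    (h1 : Subsingleton (B ⊗[B'] L')) (h2 : Subsingleton (A' ⊗[B'] L')) : Subsingleton L' := by
  refine ⟨fun x y => ?_⟩
  rw [← sub_eq_zero]
  have h3 : (1 : B) ⊗ₜ[B'] (x - y) = 0 := Subsingleton.elim _ _
  rw [one_tmul_eq_zero_iff (surjective_B hsq)] at h3
  refine Submodule.smul_induction_on h3 (fun k hk m _ => ?_) (fun a b ha hb => ?_)
  · exact smul_eq_zero_of_one_tmul_eq_zero hsq m (Subsingleton.elim _ _) k hk
  · rw [ha, hb, add_zero]

section span

variable {R : Type*} [CommRing R] {L : Type*} [AddCommGroup L] [Module R L]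

theorem span_one_tmul (C : Type*) [CommRing C] [Algebra R C] :
    Submodule.span C (TensorProduct.mk R C L 1 '' Set.univ) = ⊤ := by
  rw [eq_top_iff]
  rintro x -
  induction x using TensorProduct.induction_on with
  | zero => exact Submodule.zero_mem _
  | tmul c l =>
    have : c ⊗ₜ[R] l = c • (TensorProduct.mk R C L 1 l) := by
      rw [TensorProduct.mk_apply, TensorProduct.smul_tmul', smul_eq_mul, mul_one]
    rw [this]
    exact Submodule.smul_mem _ _ (Submodule.subset_span ⟨l, trivial, rfl⟩)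
  | add x y hx hy => exact Submodule.add_mem _ hx hy

theorem exists_finset_of_finite (C : Type*) [CommRing C] [Algebra R C]
    [h : Module.Finite C (C ⊗[R] L)] : ∃ t : Finset L,
      Submodule.span C ((TensorProduct.mk R C L 1) '' (t : Set L)) = ⊤ := by
  classical
  have a1 : (Submodule.span C (TensorProduct.mk R C L 1 '' Set.univ)).FG := by
    rw [span_one_tmul]; exact h.fg_top
  rw [Submodule.fg_span_iff_fg_span_finset_subset] at a1
  obtain ⟨s1, hs1, e1⟩ := a1
  rw [span_one_tmul] at e1
  obtain ⟨t1, -, ht1⟩ := Finset.subset_set_image_iff.mp hs1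
  refine ⟨t1, ?_⟩
  rw [← Finset.coe_image, ht1]
  exact e1.symm

theorem subsingleton_of_span (C : Type*) [CommRing C] [Algebra R C] (K : Submodule R L)
    (t : Set L) (ht : t ⊆ K) (hspan : Submodule.span C ((TensorProduct.mk R C L 1) '' t) = ⊤) :
    Subsingleton (C ⊗[R] (L ⧸ K)) := by
  have hs : ∀ x : C ⊗[R] L, (K.mkQ.baseChange C) x = 0 := by
    intro x
    have hx : x ∈ Submodule.span C ((TensorProduct.mk R C L 1) '' t) := by
      rw [hspan]; trivial
    induction hx using Submodule.span_induction with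
    | mem x hx =>
      obtain ⟨l, hl, rfl⟩ := hx
      rw [TensorProduct.mk_apply, LinearMap.baseChange_tmul, Submodule.mkQ_apply]
      have : (Submodule.Quotient.mk l : L ⧸ K) = 0 := by
        rw [Submodule.Quotient.mk_eq_zero]
        exact ht hl
      rw [this, tmul_zero]
    | zero => exact map_zero _
    | add x y _ _ hx hy => rw [map_add, hx, hy, add_zero]
    | smul c x _ hx => rw [map_smul, hx, smul_zero]
  refine ⟨fun x y => ?_⟩
  have hsurj : Function.Surjective (K.mkQ.baseChange C) :=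
    LinearMap.lTensor_surjective C (Submodule.mkQ_surjective K)
  obtain ⟨x', rfl⟩ := hsurj x
  obtain ⟨y', rfl⟩ := hsurj y
  rw [hs, hs]

end span

theorem finite_of_pair (hsq : EtMil.IsFibreSquare B' B A' A)
    (L' : Type v) [AddCommGroup L'] [Module B' L']
    [h1 : Module.Finite B (B ⊗[B'] L')] [h2 : Module.Finite A' (A' ⊗[B'] L')] :
    Module.Finite B' L' := by
  classical
  obtain ⟨t1, ht1⟩ := exists_finset_of_finite (R := B') (L := L') B
  obtain ⟨t2, ht2⟩ := exists_finset_of_finite (R := B') (L := L') A'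
  let K : Submodule B' L' := Submodule.span B' ((t1 ∪ t2 : Finset L') : Set L')
  have hB : Subsingleton (B ⊗[B'] (L' ⧸ K)) := by
    refine subsingleton_of_span B K t1 (fun x hx => Submodule.subset_span ?_) ht1
    rw [Finset.coe_union]; exact Or.inl hx
  have hA : Subsingleton (A' ⊗[B'] (L' ⧸ K)) := by
    refine subsingleton_of_span A' K t2 (fun x hx => Submodule.subset_span ?_) ht2
    rw [Finset.coe_union]; exact Or.inr hx
  have hQ := subsingleton_of_pair hsq (L' ⧸ K) hB hA
  exact ⟨⟨t1 ∪ t2, Submodule.Quotient.subsingleton_iff.mp hQ⟩⟩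

section gen

variable {L' N M' : Type u} [AddCommGroup L'] [Module B' L']
  [AddCommGroup N] [Module B N] [Module B' N] [IsScalarTower B' B N]
  [AddCommGroup M'] [Module A' M'] [Module B' M'] [IsScalarTower B' A' M']

/-- The map to the glued module. -/
def unit (φ : A ⊗[B] N ≃ₗ[A] A ⊗[A'] M') (p : L' →ₗ[B'] N) (q : L' →ₗ[B'] M')
    (hc : ∀ l, φ ((1 : A) ⊗ₜ[B] p l) = (1 : A) ⊗ₜ[A'] q l) : L' →ₗ[B'] EtMil.glue B' φ :=
  LinearMap.codRestrict _ (p.prod q) hc

variable (φ : A ⊗[B] N ≃ₗ[A] A ⊗[A'] M') (p : L' →ₗ[B'] N) (q : L' →ₗ[B'] M')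
    (hc : ∀ l, φ ((1 : A) ⊗ₜ[B] p l) = (1 : A) ⊗ₜ[A'] q l)

@[simp] theorem glueFst_unit (l : L') : EtMil.glueFst B' φ (unit φ p q hc l) = p l := rfl

@[simp] theorem glueSnd_unit (l : L') : EtMil.glueSnd B' φ (unit φ p q hc l) = q l := rfl

theorem unit_surjective (hsq : EtMil.IsFibreSquare B' B A' A) (hp : Function.Surjective p)
    (hq : Submodule.span A' (Set.range q) = ⊤) : Function.Surjective (unit φ p q hc) := by
  intro z
  obtain ⟨l, hl⟩ := hp (EtMil.glueFst B' φ z)
  -- elements of `I M'` are images of elements of `J L'`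
  have key : ∀ t ∈ (RingHom.ker (algebraMap A' A)) • (⊤ : Submodule A' M'),
      ∃ y : L', p y = 0 ∧ q y = t := by
    intro t ht
    rw [← hq] at ht
    refine Submodule.smul_induction_on ht ?_ ?_
    · rintro r hr x hx
      rw [RingHom.mem_ker] at hr
      induction hx using Submodule.span_induction generalizing r with
      | mem x hx =>
        obtain ⟨w, rfl⟩ := hx
        obtain ⟨j, hj1, hj2⟩ := exists_ker hsq r hr
        refine ⟨j • w, ?_, ?_⟩
        · rw [map_smul, ← IsScalarTower.algebraMap_smul B j, hj1, zero_smul]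
        · rw [map_smul, ← IsScalarTower.algebraMap_smul A' j, hj2]
      | zero => exact ⟨0, by simp, by simp⟩
      | add x y _ _ hx hy =>
        obtain ⟨y₁, h₁, e₁⟩ := hx r hr
        obtain ⟨y₂, h₂, e₂⟩ := hy r hr
        exact ⟨y₁ + y₂, by rw [map_add, h₁, h₂, add_zero], by rw [smul_add, map_add, e₁, e₂]⟩
      | smul a x _ hx =>
        obtain ⟨y₁, h₁, e₁⟩ := hx (r * a) (by rw [map_mul, hr, zero_mul])
        exact ⟨y₁, h₁, by rw [e₁, mul_smul]⟩
    · rintro x y ⟨y₁, h₁, e₁⟩ ⟨y₂, h₂, e₂⟩
      exact ⟨y₁ + y₂, by rw [map_add, h₁, h₂, add_zero], by rw [map_add, e₁, e₂]⟩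
  have h1 : EtMil.glueFst B' φ (z - unit φ p q hc l) = 0 := by
    rw [map_sub, glueFst_unit, hl, sub_self]
  have h2 : EtMil.glueSnd B' φ (z - unit φ p q hc l) ∈
      (RingHom.ker (algebraMap A' A)) • (⊤ : Submodule A' M') := by
    rw [← one_tmul_eq_zero_iff hsq.1, ← glue_compat, h1, tmul_zero, map_zero]
  obtain ⟨y, hy1, hy2⟩ := key _ h2
  refine ⟨l + y, ?_⟩
  apply glue_ext
  · rw [glueFst_unit, map_add, hy1, add_zero, hl]
  · rw [glueSnd_unit, map_add, hy2, map_sub, glueSnd_unit]
    abel

theorem subsingleton_tensor_ker {R : Type*} [CommRing R] {L G Q : Type*} [AddCommGroup L]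
    [Module R L] [AddCommGroup G] [Module R G] [AddCommGroup Q] [Module R Q]
    (f : L →ₗ[R] G) (hf : Function.Surjective f) [Module.Flat R G]
    (C : Type*) [CommRing C] [Algebra R C] [Module C Q] [IsScalarTower R C Q]
    (s : G →ₗ[R] Q) (hs : IsBaseChange C (s ∘ₗ f)) : Subsingleton (C ⊗[R] (LinearMap.ker f)) := by
  have hex : Function.Exact (LinearMap.ker f).subtype f := LinearMap.exact_subtype_ker_map f
  have hinj : Function.Injective ((LinearMap.ker f).subtype.lTensor C) :=
    LinearMap.lTensor_injective_of_exact_of_flat f hf _ (Submodule.injective_subtype _) hex C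
  have h1 : Function.Injective (f.lTensor C) := by
    have h2 : Function.Injective ((s.liftBaseChange C) ∘ₗ (f.baseChange C)) := by
      have h3 : (s.liftBaseChange C) ∘ₗ (f.baseChange C) = (s ∘ₗ f).liftBaseChange C := by
        ext; simp
      rw [h3]
      exact hs.equiv.injective
    rw [LinearMap.coe_comp] at h2
    exact Function.Injective.of_comp h2
  refine ⟨fun x y => hinj (h1 ?_)⟩
  rw [← LinearMap.comp_apply, ← LinearMap.comp_apply, ← LinearMap.lTensor_comp,
    LinearMap.comp_ker_subtype, LinearMap.lTensor_zero, LinearMap.zero_apply,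
    LinearMap.zero_apply]

theorem unit_injective_of_flat (hsq : EtMil.IsFibreSquare B' B A' A)
    (hp : IsBaseChange B p) (hq : IsBaseChange A' q) (hsurj : Function.Surjective (unit φ p q hc))
    [Module.Flat B' (EtMil.glue B' φ)] : Function.Injective (unit φ p q hc) := by
  have hB : Subsingleton (B ⊗[B'] (LinearMap.ker (unit φ p q hc))) :=
    subsingleton_tensor_ker _ hsurj B (EtMil.glueFst B' φ) hp
  have hA : Subsingleton (A' ⊗[B'] (LinearMap.ker (unit φ p q hc))) :=
    subsingleton_tensor_ker _ hsurj A' (EtMil.glueSnd B' φ) hq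
  have hK := subsingleton_of_pair hsq _ hB hA
  rw [← LinearMap.ker_eq_bot]
  exact Submodule.subsingleton_iff_eq_bot.mp hK

theorem unit_bijective_of_flat (hsq : EtMil.IsFibreSquare B' B A' A)
    (hp : IsBaseChange B p) (hq : IsBaseChange A' q) [Module.Flat B N] [Module.Flat A' M'] :
    Function.Bijective (unit φ p q hc) := by
  have : Module.Flat B' (EtMil.glue B' φ) := flat_glue hsq _
  have hsurj : Function.Surjective (unit φ p q hc) := by
    apply unit_surjective φ p q hc hsq
    · intro n
      obtain ⟨x, rfl⟩ := hp.equiv.surjective n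
      obtain ⟨l, rfl⟩ := one_tmul_surjective (surjective_B hsq) x
      exact ⟨l, by rw [hp.equiv_tmul, one_smul]⟩
    · rw [eq_top_iff]
      rintro m -
      obtain ⟨x, rfl⟩ := hq.equiv.surjective m
      induction x using TensorProduct.induction_on with
      | zero => rw [map_zero]; exact Submodule.zero_mem _
      | tmul a l =>
        rw [hq.equiv_tmul]
        exact Submodule.smul_mem _ _ (Submodule.subset_span ⟨l, rfl⟩)
      | add x y hx hy => rw [map_add]; exact Submodule.add_mem _ hx hy
  exact ⟨unit_injective_of_flat φ p q hc hsq hp hq hsurj, hsurj⟩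

end gen

section pair

variable (L' : Type u) [AddCommGroup L'] [Module B' L']

variable (B' B A' A) in
/-- The canonical glueing datum of `L'`. -/
noncomputable def phi : A ⊗[B] (B ⊗[B'] L') ≃ₗ[A] A ⊗[A'] (A' ⊗[B'] L') :=
  (AlgebraTensorModule.cancelBaseChange B' B A A L') ≪≫ₗ
    (AlgebraTensorModule.cancelBaseChange B' A' A A L').symm

theorem phi_tmul (l : L') :
    phi B' B A' A L' ((1 : A) ⊗ₜ[B] ((1 : B) ⊗ₜ[B'] l)) = (1 : A) ⊗ₜ[A'] ((1 : A') ⊗ₜ[B'] l) := by
  simp [phi]

/-- membership in the glued module in terms of the maps to `A ⊗ L'`. -/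
theorem mem_glue_phi_iff (x : B ⊗[B'] L') (y : A' ⊗[B'] L') :
    ((x, y) : (B ⊗[B'] L') × (A' ⊗[B'] L')) ∈ EtMil.glue B' (phi B' B A' A L') ↔
      (IsScalarTower.toAlgHom B' B A).toLinearMap.rTensor L' x =
        (IsScalarTower.toAlgHom B' A' A).toLinearMap.rTensor L' y := by
  have e1 : ∀ x : B ⊗[B'] L', AlgebraTensorModule.cancelBaseChange B' B A A L' ((1 : A) ⊗ₜ[B] x) =
      (IsScalarTower.toAlgHom B' B A).toLinearMap.rTensor L' x := by
    intro x
    induction x using TensorProduct.induction_on with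
    | zero => simp
    | tmul b l => simp [Algebra.smul_def]
    | add x y hx hy => rw [tmul_add, map_add, hx, hy, map_add]
  have e2 : ∀ x : A' ⊗[B'] L', AlgebraTensorModule.cancelBaseChange B' A' A A L'
      ((1 : A) ⊗ₜ[A'] x) = (IsScalarTower.toAlgHom B' A' A).toLinearMap.rTensor L' x := by
    intro x
    induction x using TensorProduct.induction_on with
    | zero => simp
    | tmul b l => simp [Algebra.smul_def]
    | add x y hx hy => rw [tmul_add, map_add, hx, hy, map_add]
  rw [mem_glue, ← e1, ← e2]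
  change (AlgebraTensorModule.cancelBaseChange B' A' A A L').symm
    (AlgebraTensorModule.cancelBaseChange B' B A A L' ((1 : A) ⊗ₜ[B] x)) = _ ↔ _
  rw [LinearEquiv.symm_apply_eq]

/-- `L' → (B ⊗ L') ×_{A ⊗ L'} (A' ⊗ L')` is surjective. -/
theorem exists_of_pair (hsq : EtMil.IsFibreSquare B' B A' A)
    (x : B ⊗[B'] L') (y : A' ⊗[B'] L')
    (h : (IsScalarTower.toAlgHom B' B A).toLinearMap.rTensor L' x =
        (IsScalarTower.toAlgHom B' A' A).toLinearMap.rTensor L' y) :
    ∃ l : L', (1 : B) ⊗ₜ[B'] l = x ∧ (1 : A') ⊗ₜ[B'] l = y := by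
  have hsurj := unit_surjective (phi B' B A' A L') (TensorProduct.mk B' B L' 1)
    (TensorProduct.mk B' A' L' 1) (phi_tmul L') hsq (one_tmul_surjective (surjective_B hsq))
    (by rw [← Set.image_univ]; exact span_one_tmul A')
  obtain ⟨l, hl⟩ := hsurj ⟨(x, y), (mem_glue_phi_iff L' x y).mpr h⟩
  exact ⟨l, congrArg (fun z => (z : (B ⊗[B'] L') × (A' ⊗[B'] L')).1) (congrArg Subtype.val hl),
    congrArg (fun z => (z : (B ⊗[B'] L') × (A' ⊗[B'] L')).2) (congrArg Subtype.val hl)⟩

theorem unit_phi_bijective (hsq : EtMil.IsFibreSquare B' B A' A)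
    [Module.Flat B (B ⊗[B'] L')] [Module.Flat A' (A' ⊗[B'] L')] :
    Function.Bijective (unit (phi B' B A' A L') (TensorProduct.mk B' B L' 1)
      (TensorProduct.mk B' A' L' 1) (phi_tmul L')) :=
  unit_bijective_of_flat _ _ _ _ hsq (TensorProduct.isBaseChange B' L' B)
    (TensorProduct.isBaseChange B' L' A')

theorem flat_of_pair (hsq : EtMil.IsFibreSquare B' B A' A)
    [Module.Flat B (B ⊗[B'] L')] [Module.Flat A' (A' ⊗[B'] L')] : Module.Flat B' L' :=
  have : Module.Flat B' (EtMil.glue B' (phi B' B A' A L')) := flat_glue hsq _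
  Module.Flat.of_linearEquiv (LinearEquiv.ofBijective _ (unit_phi_bijective L' hsq))

theorem finite_projective_of_pair (hsq : EtMil.IsFibreSquare B' B A' A)
    [Module.Finite B (B ⊗[B'] L')] [Module.Projective B (B ⊗[B'] L')]
    [Module.Finite A' (A' ⊗[B'] L')] [Module.Projective A' (A' ⊗[B'] L')] :
    Module.Finite B' L' ∧ Module.Projective B' L' := by
  refine ⟨finite_of_pair hsq L', ?_⟩
  have h2 : Module.Projective B' (EtMil.glue B' (phi B' B A' A L')) := projective_glue hsq _
  exact Module.Projective.of_equiv (LinearEquiv.ofBijective _ (unit_phi_bijective L' hsq)).symm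

theorem finitePresentation_of_pair (hsq : EtMil.IsFibreSquare B' B A' A)
    [Module.Flat B (B ⊗[B'] L')] [Module.FinitePresentation B (B ⊗[B'] L')]
    [Module.Flat A' (A' ⊗[B'] L')] [Module.FinitePresentation A' (A' ⊗[B'] L')] :
    Module.FinitePresentation B' L' := by
  have : Module.Projective B (B ⊗[B'] L') := Module.Flat.projective_of_finitePresentation
  have : Module.Projective A' (A' ⊗[B'] L') := Module.Flat.projective_of_finitePresentation
  obtain ⟨h1, h2⟩ := finite_projective_of_pair L' hsq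
  exact Module.finitePresentation_of_projective _ _

end pair

end K364.MilnorPair
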