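import Groth.Agent.Ega2.CompleteFinite
import Groth.Agent.S0543
import Groth.Agent.FormalA.AdicFin
import Mathlib.RingTheory.AdicCompletion.Completeness
import Mathlib.RingTheory.AdicCompletion.LocalRing
import Mathlib.RingTheory.AdicCompletion.AsTensorProduct
import Mathlib.RingTheory.AdicCompletion.Functoriality

/-!
Completed local rings of a finite algebra over a Noetherian local ring.

Let `A` be a Noetherian local ring with completion `Â`, `B` a finite `A`-algebra, `C = Â ⊗[A] B`.
`Good A B E` says that the local ring `E`, an algebra over `Â` and `B`, behaves like the completion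
of a local ring of `B` at a maximal ideal.  Then `C → E` is surjective with kernel `(1 - e) C` for an
idempotent `e`.
-/

set_option autoImplicit false
universe u
open IsLocalRing TensorProduct

namespace K364.CplCore

section adic

variable {A : Type*} [CommRing A] (I : Ideal A)

theorem exists_sub_mem (hI : I.FG) (n : ℕ) (x : AdicCompletion I A) :
    ∃ a : A, x - algebraMap A _ a ∈ (I ^ n).map (algebraMap A (AdicCompletion I A)) := by
  obtain ⟨a, ha⟩ := Submodule.Quotient.mk_surjective _ (AdicCompletion.eval I A n x)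
  refine ⟨a, ?_⟩
  have h1 : x - algebraMap A (AdicCompletion I A) a ∈ (AdicCompletion.eval I A n).ker := by
    rw [LinearMap.mem_ker, map_sub, sub_eq_zero, ← ha, AdicCompletion.algebraMap_apply]
    rfl
  rw [← AdicCompletion.pow_smul_top_eq_ker_eval hI, ← SetLike.mem_coe] at h1
  rw [← Submodule.restrictScalars_mem A, ← Ideal.smul_top_eq_map]
  exact h1

/-- Ring homomorphisms out of a completion are determined by their restriction, if the target is
Hausdorff. -/
theorem ringHom_ext (hI : I.FG) {E : Type*} [CommRing E] (J : Ideal E) [IsHausdorff J E]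
    (f g : AdicCompletion I A →+* E)
    (h : ∀ a, f (algebraMap A _ a) = g (algebraMap A _ a))
    (hJ : ∀ a ∈ I, f (algebraMap A _ a) ∈ J) : f = g := by
  ext x
  rw [← sub_eq_zero]
  apply IsHausdorff.haus (I := J) inferInstance
  intro n
  rw [SModEq.zero, smul_eq_mul, Ideal.mul_top]
  obtain ⟨a, ha⟩ := exists_sub_mem I hI n x
  have h1 : ∀ (φ : AdicCompletion I A →+* E), (∀ a ∈ I, φ (algebraMap A _ a) ∈ J) →
      ∀ y ∈ (I ^ n).map (algebraMap A (AdicCompletion I A)), φ y ∈ J ^ n := by
    intro φ hφ y hy
    have h2 : ((I ^ n).map (algebraMap A (AdicCompletion I A))).map φ ≤ J ^ n := by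
      rw [Ideal.map_map, Ideal.map_pow]
      apply Ideal.pow_right_mono
      rw [Ideal.map_le_iff_le_comap]
      intro a ha
      exact hφ a ha
    exact h2 (Ideal.mem_map_of_mem φ hy)
  have h3 := h1 f hJ _ ha
  have h4 := h1 g (fun a ha => by rw [← h]; exact hJ a ha) _ ha
  have h5 := Ideal.sub_mem _ h3 h4
  rw [map_sub, map_sub, h a] at h5
  simpa using h5

end adic

section core

variable (A B E : Type u) [CommRing A] [IsLocalRing A] [IsNoetherianRing A]
  [CommRing B] [Algebra A B] [Module.Finite A B]
  [CommRing E] [IsLocalRing E] [Algebra A E] [Algebra B E] [IsScalarTower A B E]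
  [Algebra (AdicCompletion (maximalIdeal A) A) E]
  [IsScalarTower A (AdicCompletion (maximalIdeal A) A) E]

/-- `E` behaves like the completion of `B` at a maximal ideal. -/
structure Good : Prop where
  hausdorff : IsHausdorff ((maximalIdeal A).map (algebraMap A E)) E
  dense : ∀ x : E, ∃ b : B, x - algebraMap B E b ∈ (maximalIdeal A).map (algebraMap A E)
  sat : ∀ (n : ℕ) (b : B), algebraMap B E b ∈ ((maximalIdeal A) ^ n).map (algebraMap A E) →
    ∃ u : B, IsUnit (algebraMap B E u) ∧ u * b ∈ ((maximalIdeal A) ^ n).map (algebraMap A B)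

/-- The ring `Â ⊗ B`. -/
abbrev C : Type u := AdicCompletion (maximalIdeal A) A ⊗[A] B

/-- The map `Â ⊗ B → E`. -/
noncomputable def π : C A B →ₐ[AdicCompletion (maximalIdeal A) A] E :=
  Algebra.TensorProduct.lift (Algebra.ofId _ E) (IsScalarTower.toAlgHom A B E)
    (fun _ _ => Commute.all _ _)

omit [IsNoetherianRing A] [Module.Finite A B] [IsLocalRing E] in
@[simp] theorem π_tmul (a : AdicCompletion (maximalIdeal A) A) (b : B) :
    π A B E (a ⊗ₜ b) = algebraMap _ E a * algebraMap B E b := by
  simp [π, Algebra.ofId_apply]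

variable {A B E}

omit [Module.Finite A B] in
theorem exists_sub_mem_C (n : ℕ) (x : C A B) : ∃ b : B,
    x - (1 : AdicCompletion (maximalIdeal A) A) ⊗ₜ[A] b ∈
      ((maximalIdeal A) ^ n).map (algebraMap A (C A B)) := by
  induction x using TensorProduct.induction_on with
  | zero => exact ⟨0, by simp⟩
  | tmul y b =>
    obtain ⟨a, ha⟩ := exists_sub_mem (maximalIdeal A) (IsNoetherian.noetherian _) n y
    refine ⟨a • b, ?_⟩
    rw [← TensorProduct.smul_tmul, ← TensorProduct.sub_tmul, Algebra.smul_def, mul_one]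
    have h1 : (y - algebraMap A _ a) ⊗ₜ[A] b =
        algebraMap (AdicCompletion (maximalIdeal A) A) (C A B) (y - algebraMap A _ a) *
          (1 ⊗ₜ[A] b) := by
      rw [Algebra.TensorProduct.algebraMap_apply, Algebra.TensorProduct.tmul_mul_tmul, one_mul,
        mul_one]
      rfl
    rw [h1]
    apply Ideal.mul_mem_right
    have h2 := Ideal.mem_map_of_mem (algebraMap (AdicCompletion (maximalIdeal A) A) (C A B)) ha
    rwa [Ideal.map_map, ← IsScalarTower.algebraMap_eq] at h2
  | add x y hx hy =>
    obtain ⟨b, hb⟩ := hx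
    obtain ⟨c, hc⟩ := hy
    refine ⟨b + c, ?_⟩
    rw [TensorProduct.tmul_add, add_sub_add_comm]
    exact Ideal.add_mem _ hb hc

theorem isNoetherianRing_cpl : IsNoetherianRing (AdicCompletion (maximalIdeal A) A) :=
  Groth.Agent.S0543.result A (maximalIdeal A)

theorem isAdicComplete_C : IsAdicComplete ((maximalIdeal A).map (algebraMap A (C A B))) (C A B) := by
  have h1 : IsNoetherianRing (AdicCompletion (maximalIdeal A) A) := isNoetherianRing_cpl
  have h2 : IsAdicComplete (maximalIdeal (AdicCompletion (maximalIdeal A) A)) (C A B) :=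
    Groth.Agent.Ega2.CompleteFinite.isAdicComplete_of_finite
  have h3 : IsAdicComplete ((maximalIdeal (AdicCompletion (maximalIdeal A) A)).map
      (algebraMap (AdicCompletion (maximalIdeal A) A) (C A B))) (C A B) :=
    (IsAdicComplete.map_algebraMap_iff _ _).mpr h2
  rwa [AdicCompletion.maximalIdeal_eq_map, Ideal.map_map, ← IsScalarTower.algebraMap_eq] at h3

omit [IsNoetherianRing A] [Module.Finite A B] in
theorem Good.le_maximalIdeal (h : Good A B E) :
    (maximalIdeal A).map (algebraMap A E) ≤ maximalIdeal E := by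
  apply IsLocalRing.le_maximalIdeal
  intro htop
  have h1 := h.hausdorff
  rw [htop] at h1
  have h2 : (1 : E) = 0 := by
    apply h1.haus'
    intro n
    rw [SModEq.zero, smul_eq_mul, Ideal.mul_top, Ideal.top_pow]
    trivial
  exact one_ne_zero h2

/-- `Â ⊗ B → E` is surjective. -/
theorem Good.surjective (h : Good A B E) : Function.Surjective (π A B E) := by
  have h1 := isAdicComplete_C (A := A) (B := B)
  have hmap : ((maximalIdeal A).map (algebraMap A (C A B))).map (π A B E).toRingHom =
      (maximalIdeal A).map (algebraMap A E) := by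
    rw [Ideal.map_map]
    congr 1
    ext a
    change π A B E (algebraMap A (C A B) a) = _
    rw [Algebra.TensorProduct.algebraMap_apply, π_tmul, map_one, mul_one,
      ← IsScalarTower.algebraMap_apply]
  have h2 : IsHausdorff (((maximalIdeal A).map (algebraMap A (C A B))).map (π A B E).toRingHom) E := by
    rw [hmap]; exact h.hausdorff
  refine surjective_of_mk_map_comp_surjective
    (I := (maximalIdeal A).map (algebraMap A (C A B))) (π A B E).toRingHom ?_
  intro y
  obtain ⟨y, rfl⟩ := Ideal.Quotient.mk_surjective y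
  obtain ⟨b, hb⟩ := h.dense y
  refine ⟨1 ⊗ₜ b, ?_⟩
  rw [RingHom.comp_apply, eq_comm, Ideal.Quotient.eq, hmap]
  change y - π A B E (1 ⊗ₜ b) ∈ _
  rwa [π_tmul, map_one, one_mul]

/-- The maximal ideal of `Â ⊗ B` cut out by `E`. -/
noncomputable def 𝔮 (A B E : Type u) [CommRing A] [IsLocalRing A] [IsNoetherianRing A]
    [CommRing B] [Algebra A B] [Module.Finite A B]
    [CommRing E] [IsLocalRing E] [Algebra A E] [Algebra B E] [IsScalarTower A B E]
    [Algebra (AdicCompletion (maximalIdeal A) A) E]
    [IsScalarTower A (AdicCompletion (maximalIdeal A) A) E] : Ideal (C A B) :=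
  (maximalIdeal E).comap (π A B E)

theorem Good.isMaximal_𝔮 (h : Good A B E) : (𝔮 A B E).IsMaximal :=
  Ideal.comap_isMaximal_of_surjective _ h.surjective

/-- A maximal ideal of `Â ⊗ B` is determined by its contraction to `B`. -/
theorem eq_of_comap_eq (P Q : Ideal (C A B)) [P.IsMaximal] [Q.IsMaximal]
    (hPQ : ∀ b : B, (1 : AdicCompletion (maximalIdeal A) A) ⊗ₜ[A] b ∈ P ↔
      (1 : AdicCompletion (maximalIdeal A) A) ⊗ₜ[A] b ∈ Q) : P = Q := by
  have hle : ∀ (P : Ideal (C A B)) [P.IsMaximal],
      (maximalIdeal A).map (algebraMap A (C A B)) ≤ P := by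
    intro P _
    have h2 : (P.comap (algebraMap (AdicCompletion (maximalIdeal A) A) (C A B))).IsMaximal :=
      Ideal.isMaximal_comap_of_isIntegral_of_isMaximal P
    rw [Ideal.map_le_iff_le_comap, IsScalarTower.algebraMap_eq A
      (AdicCompletion (maximalIdeal A) A) (C A B), ← Ideal.comap_comap,
      IsLocalRing.eq_maximalIdeal h2, ← Ideal.map_le_iff_le_comap,
      AdicCompletion.maximalIdeal_eq_map]
  ext x
  obtain ⟨b, hb⟩ := exists_sub_mem_C (A := A) (B := B) 1 x
  rw [pow_one] at hb
  have h1 : ∀ (P : Ideal (C A B)) [P.IsMaximal], x ∈ P ↔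
      (1 : AdicCompletion (maximalIdeal A) A) ⊗ₜ[A] b ∈ P := by
    intro P _
    have h2 := hle P hb
    constructor
    · intro h3
      have := P.sub_mem h3 h2
      simpa using this
    · intro h3
      have := P.add_mem h3 h2
      simpa using this
  rw [h1 P, h1 Q, hPQ]

/-- Idempotents contained in the same maximal ideals are equal. -/
theorem idem_eq {R : Type*} [CommRing R] {e f : R} (he : e * e = e) (hf : f * f = f)
    (h : ∀ P : Ideal R, P.IsMaximal → (e ∈ P ↔ f ∈ P)) : e = f := by
  have key : ∀ {e f : R}, e * e = e → f * f = f →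
      (∀ P : Ideal R, P.IsMaximal → (e ∈ P ↔ f ∈ P)) → e * (1 - f) = 0 := by
    intro e f he hf h
    set g := e * (1 - f) with hg
    have hgg : g * g = g := by
      have h1 : (1 - f) * (1 - f) = 1 - f := by
        have : (1 - f) * (1 - f) = 1 - f - f + f * f := by ring
        rw [this, hf]; ring
      calc g * g = (e * e) * ((1 - f) * (1 - f)) := by rw [hg]; ring
        _ = g := by rw [he, h1]
    have hunit : IsUnit (1 - g) := by
      by_contra hcon
      obtain ⟨P, hP, hgP⟩ := exists_max_ideal_of_mem_nonunits hcon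
      have h2 : g ∉ P := fun h3 => hP.ne_top ((Ideal.eq_top_iff_one _).mpr (by
        have := P.add_mem hgP h3
        simpa using this))
      have h3 : e ∉ P := fun h4 => h2 (P.mul_mem_right _ h4)
      have h4 : f ∉ P := fun h5 => h3 ((h P hP).mpr h5)
      have h5 : 1 - f ∈ P := by
        have h6 : f * (1 - f) = 0 := by rw [mul_sub, hf, mul_one, sub_self]
        exact (hP.isPrime.mem_or_mem (by rw [h6]; exact P.zero_mem)).resolve_left h4
      exact h2 (P.mul_mem_left _ h5)
    have h6 : g * (1 - g) = 0 := by rw [mul_sub, hgg, mul_one, sub_self]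
    exact (hunit.mul_left_eq_zero).mp h6
  have h1 := key he hf h
  have h2 := key hf he (fun P hP => (h P hP).symm)
  have h3 : e = e * f := by
    rw [mul_sub, mul_one, sub_eq_zero] at h1; exact h1
  have h4 : f = f * e := by
    rw [mul_sub, mul_one, sub_eq_zero] at h2; exact h2
  rw [h3, mul_comm, ← h4]

/-- The idempotent of `E` in `Â ⊗ B`. -/
theorem Good.exists_idem (h : Good A B E) : ∃ e : C A B, e * e = e ∧ π A B E e = 1 ∧
    (∀ x, π A B E x = 0 → e * x = 0) ∧ e ∉ 𝔮 A B E ∧
    (∀ P : Ideal (C A B), P.IsMaximal → P ≠ 𝔮 A B E → e ∈ P) := by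
  have h0 : IsNoetherianRing (AdicCompletion (maximalIdeal A) A) := isNoetherianRing_cpl
  have hq := h.isMaximal_𝔮
  obtain ⟨e, he, heq, hothers⟩ := Groth.Agent.Ega2.CompleteFinite.exists_idempotent_of_isMaximal
    (A := AdicCompletion (maximalIdeal A) A) (𝔮 A B E)
  have hee : e * e = e := he
  have hπe : π A B E e = 1 := by
    have h1 : IsIdempotentElem (π A B E e) := he.map (π A B E)
    have h2 : π A B E e * (1 - π A B E e) = 0 := by rw [mul_sub, h1.eq, mul_one, sub_self]
    have h3 : IsUnit (π A B E e) := by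
      by_contra hcon
      exact heq ((IsLocalRing.mem_maximalIdeal _).mpr hcon)
    have h4 := (h3.mul_right_eq_zero).mp h2
    exact (sub_eq_zero.mp h4).symm
  refine ⟨e, hee, hπe, ?_, heq, hothers⟩
  -- units
  have hinv : ∀ x : C A B, x ∉ 𝔮 A B E → ∃ y, x * y * e = e := by
    intro x hx
    have h1 : IsUnit (x * e + (1 - e)) := by
      by_contra hcon
      obtain ⟨P, hP, hgP⟩ := exists_max_ideal_of_mem_nonunits hcon
      by_cases hPq : P = 𝔮 A B E
      · have h2 : 1 - e ∈ P := by
          have h6 : e * (1 - e) = 0 := by rw [mul_sub, hee, mul_one, sub_self]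
          rw [hPq]
          exact (hq.isPrime.mem_or_mem (by rw [h6]; exact Ideal.zero_mem _)).resolve_left heq
        have h3 : x * e ∈ P := by
          have := P.sub_mem hgP h2
          simpa using this
        rw [hPq] at h3
        rcases hq.isPrime.mem_or_mem h3 with h4 | h4
        · exact hx h4
        · exact heq h4
      · have h2 := hothers P hP hPq
        have h3 : 1 - e ∈ P := by
          have := P.sub_mem hgP (P.mul_mem_left x h2)
          simpa using this
        exact hP.ne_top ((Ideal.eq_top_iff_one _).mpr (by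
          have := P.add_mem h3 h2
          simpa using this))
    obtain ⟨y, hy⟩ := h1.exists_right_inv
    refine ⟨y, ?_⟩
    calc x * y * e = x * (e * e) * y + (1 - e) * e * y := by rw [hee, sub_mul, one_mul, hee]; ring
      _ = (x * e + (1 - e)) * y * e := by ring
      _ = e := by rw [hy, one_mul]
  intro x hx
  have hhaus := (isAdicComplete_C (A := A) (B := B)).toIsHausdorff
  apply hhaus.haus'
  intro n
  rw [SModEq.zero, smul_eq_mul, Ideal.mul_top, ← Ideal.map_pow]
  obtain ⟨b, hb⟩ := exists_sub_mem_C (A := A) (B := B) n x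
  have h1 : algebraMap B E b ∈ ((maximalIdeal A) ^ n).map (algebraMap A E) := by
    have h2 := Ideal.mem_map_of_mem (π A B E).toRingHom hb
    rw [Ideal.map_map] at h2
    have h3 : (π A B E).toRingHom.comp (algebraMap A (C A B)) = algebraMap A E := by
      ext a
      change π A B E (algebraMap A (C A B) a) = _
      rw [Algebra.TensorProduct.algebraMap_apply, π_tmul, map_one, mul_one,
        ← IsScalarTower.algebraMap_apply]
    rw [h3] at h2
    have h4 : (π A B E).toRingHom (x - 1 ⊗ₜ[A] b) = - algebraMap B E b := by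
      change π A B E (x - 1 ⊗ₜ[A] b) = _
      rw [map_sub, hx, π_tmul, map_one, one_mul, zero_sub]
    rw [h4] at h2
    exact (Ideal.neg_mem_iff _).mp h2
  obtain ⟨u, hu, hub⟩ := h.sat n b h1
  have h5 : (1 : AdicCompletion (maximalIdeal A) A) ⊗ₜ[A] (u * b) ∈
      ((maximalIdeal A) ^ n).map (algebraMap A (C A B)) := by
    have h6 := Ideal.mem_map_of_mem
      (Algebra.TensorProduct.includeRight : B →ₐ[A] C A B).toRingHom hub
    rw [Ideal.map_map] at h6
    have h7 : (Algebra.TensorProduct.includeRight : B →ₐ[A] C A B).toRingHom.comp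
        (algebraMap A B) = algebraMap A (C A B) :=
      (Algebra.TensorProduct.includeRight : B →ₐ[A] C A B).comp_algebraMap
    rw [h7] at h6
    exact h6
  have h8 : (1 : AdicCompletion (maximalIdeal A) A) ⊗ₜ[A] u ∉ 𝔮 A B E := by
    intro h9
    have h10 : π A B E (1 ⊗ₜ[A] u) ∈ maximalIdeal E := h9
    rw [π_tmul, map_one, one_mul] at h10
    exact (IsLocalRing.mem_maximalIdeal _).mp h10 hu
  obtain ⟨y, hy⟩ := hinv _ h8
  have h11 : e * x = (e * y) * ((1 : AdicCompletion (maximalIdeal A) A) ⊗ₜ[A] u *
      (x - 1 ⊗ₜ[A] b) + (1 : AdicCompletion (maximalIdeal A) A) ⊗ₜ[A] (u * b)) := by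
    have h12 : (1 : AdicCompletion (maximalIdeal A) A) ⊗ₜ[A] (u * b) =
        (1 : AdicCompletion (maximalIdeal A) A) ⊗ₜ[A] u * 1 ⊗ₜ[A] b := by
      rw [Algebra.TensorProduct.tmul_mul_tmul, one_mul]
    rw [h12, mul_sub, sub_add_cancel]
    nth_rewrite 1 [← hy]
    ring
  rw [h11]
  exact Ideal.mul_mem_left _ _ (Ideal.add_mem _ (Ideal.mul_mem_left _ _ hb) h5)

end core

end K364.CplCore
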