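import Groth.Agent.EtAlg.K364.CplCore
import Mathlib.RingTheory.Invariant.Basic
import Mathlib.LinearAlgebra.TensorProduct.Pi
import Mathlib.RingTheory.AdicCompletion.AsTensorProduct

/-!
A finite group `G` acting on `B` over `A` with invariants `A`: the decomposition group acts on the
completed local ring `E` with invariants the image of `Â`, and `Â → E` is injective.
-/

set_option autoImplicit false
universe u
open IsLocalRing TensorProduct

namespace K364.CplCore

section inv

variable (A B : Type u) [CommRing A] [IsLocalRing A]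
  [CommRing B] [Algebra A B]
  {G : Type u} [Group G] [MulSemiringAction G B] [SMulCommClass G A B]

/-- The action of `G` on `Â ⊗ B`. -/
noncomputable def σ (g : G) : C A B →ₐ[AdicCompletion (maximalIdeal A) A] C A B :=
  Algebra.TensorProduct.map (AlgHom.id _ _) (MulSemiringAction.toAlgHom A B g)

@[simp] theorem σ_tmul (g : G) (a : AdicCompletion (maximalIdeal A) A) (b : B) :
    σ A B g (a ⊗ₜ b) = a ⊗ₜ (g • b) := by
  simp [σ]

theorem σ_one (x : C A B) : σ A B (1 : G) x = x := by
  induction x using TensorProduct.induction_on with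
  | zero => simp
  | tmul a b => simp
  | add x y hx hy => rw [map_add, hx, hy]

theorem σ_mul (g h : G) (x : C A B) : σ A B (g * h) x = σ A B g (σ A B h x) := by
  induction x using TensorProduct.induction_on with
  | zero => simp
  | tmul a b => simp [mul_smul]
  | add x y hx hy => rw [map_add, map_add, map_add, hx, hy]

variable [IsNoetherianRing A]

instance flat_cpl : Module.Flat A (AdicCompletion (maximalIdeal A) A) :=
  AdicCompletion.flat_of_isNoetherian _

theorem exists_of_σ_invariant [Finite G] [Algebra.IsInvariant A B G] (z : C A B)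
    (hz : ∀ g : G, σ A B g z = z) :
    ∃ a : AdicCompletion (maximalIdeal A) A, algebraMap _ (C A B) a = z := by
  classical
  cases nonempty_fintype G
  let Ψ : B →ₗ[A] (G → B) :=
    LinearMap.pi (fun g => (MulSemiringAction.toAlgHom A B g).toLinearMap - LinearMap.id)
  have hΨ : ∀ b g, Ψ b g = g • b - b := fun b g => rfl
  have hex : Function.Exact (Algebra.linearMap A B) Ψ := by
    intro b
    constructor
    · intro h
      exact Algebra.IsInvariant.isInvariant (G := G) b (fun g => sub_eq_zero.mp (congrFun h g))
    · rintro ⟨a, rfl⟩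
      ext g
      rw [hΨ, Algebra.linearMap_apply, smul_algebraMap, sub_self]
      rfl
  have hex' := Module.Flat.lTensor_exact (M := AdicCompletion (maximalIdeal A) A) hex
  have h2 : Ψ.lTensor (AdicCompletion (maximalIdeal A) A) z = 0 := by
    apply (TensorProduct.piRight A A (AdicCompletion (maximalIdeal A) A) (fun _ : G => B)).injective
    rw [map_zero]
    ext g
    have h3 : ∀ t : AdicCompletion (maximalIdeal A) A ⊗[A] B,
        TensorProduct.piRight A A (AdicCompletion (maximalIdeal A) A) (fun _ : G => B)
          (Ψ.lTensor (AdicCompletion (maximalIdeal A) A) t) g = σ A B g t - t := by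
      intro t
      induction t using TensorProduct.induction_on with
      | zero => simp
      | tmul a b =>
        rw [LinearMap.lTensor_tmul, TensorProduct.piRight_apply, TensorProduct.piRightHom_tmul]
        change a ⊗ₜ[A] Ψ b g = _
        rw [hΨ, TensorProduct.tmul_sub, σ_tmul]
      | add x y hx hy =>
        rw [map_add, map_add, Pi.add_apply, hx, hy, map_add]
        abel
    rw [h3, hz g, sub_self]
    rfl
  obtain ⟨w, hw⟩ := (hex' z).mp h2
  rw [← hw]
  refine ⟨TensorProduct.rid A _ w, ?_⟩
  clear hw
  induction w using TensorProduct.induction_on with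
  | zero => simp
  | tmul a b =>
    rw [LinearMap.lTensor_tmul, TensorProduct.rid_tmul, Algebra.linearMap_apply,
      Algebra.TensorProduct.algebraMap_apply, Algebra.algebraMap_self_apply,
      TensorProduct.smul_tmul, ← Algebra.algebraMap_eq_smul_one]
  | add x y hx hy => rw [map_add, map_add, map_add, hx, hy]

theorem algebraMap_C_injective (hinj : Function.Injective (algebraMap A B)) :
    Function.Injective (algebraMap (AdicCompletion (maximalIdeal A) A) (C A B)) := by
  have h1 : Function.Injective ((Algebra.linearMap A B).lTensor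
      (AdicCompletion (maximalIdeal A) A)) :=
    Module.Flat.lTensor_preserves_injective_linearMap _ hinj
  intro a₁ a₂ h
  have h2 : ∀ a : AdicCompletion (maximalIdeal A) A, algebraMap _ (C A B) a =
      (Algebra.linearMap A B).lTensor (AdicCompletion (maximalIdeal A) A) (a ⊗ₜ 1) := by
    intro a
    rw [LinearMap.lTensor_tmul, Algebra.linearMap_apply, map_one]
    rfl
  rw [h2, h2] at h
  have h3 := h1 h
  have h4 := congrArg (TensorProduct.rid A _) h3
  simpa using h4

end inv

section main

variable {A B E : Type u} [CommRing A] [IsLocalRing A] [IsNoetherianRing A]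
  [CommRing B] [Algebra A B] [Module.Finite A B]
  [CommRing E] [IsLocalRing E] [Algebra A E] [Algebra B E] [IsScalarTower A B E]
  [Algebra (AdicCompletion (maximalIdeal A) A) E]
  [IsScalarTower A (AdicCompletion (maximalIdeal A) A) E]
  {G : Type u} [Group G] [MulSemiringAction G B] [SMulCommClass G A B]

/-- `g` stabilizes the maximal ideal of `B` cut out by `E`. -/
def InDec (B E : Type u) [CommRing B] [MulSemiringAction G B] [CommRing E] [IsLocalRing E] [Algebra B E] (g : G) : Prop :=
  ∀ b : B, algebraMap B E (g • b) ∈ maximalIdeal E ↔ algebraMap B E b ∈ maximalIdeal E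

theorem comap_σ_eq_iff (h : Good A B E) (g : G) :
    (𝔮 A B E).comap (σ A B g) = 𝔮 A B E ↔ InDec B E g := by
  have hmem : ∀ b : B, (1 : AdicCompletion (maximalIdeal A) A) ⊗ₜ[A] b ∈ 𝔮 A B E ↔
      algebraMap B E b ∈ maximalIdeal E := by
    intro b
    change π A B E (1 ⊗ₜ[A] b) ∈ maximalIdeal E ↔ _
    rw [π_tmul, map_one, one_mul]
  have hσ : Function.Surjective (σ A B g) := by
    intro x
    refine ⟨σ A B g⁻¹ x, ?_⟩
    rw [← σ_mul, mul_inv_cancel, σ_one]
  have hq := h.isMaximal_𝔮
  have hq' : ((𝔮 A B E).comap (σ A B g)).IsMaximal := Ideal.comap_isMaximal_of_surjective _ hσ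
  constructor
  · intro heq b
    rw [← hmem, ← hmem]
    have h1 : (1 : AdicCompletion (maximalIdeal A) A) ⊗ₜ[A] b ∈ (𝔮 A B E).comap (σ A B g) ↔
      (1 : AdicCompletion (maximalIdeal A) A) ⊗ₜ[A] b ∈ 𝔮 A B E := by rw [heq]
    rw [Ideal.mem_comap, σ_tmul] at h1
    exact h1
  · intro hg
    apply eq_of_comap_eq
    intro b
    rw [Ideal.mem_comap, σ_tmul, hmem, hmem]
    exact hg b

theorem InDec.inv {g : G} (hg : InDec B E g) : InDec B E g⁻¹ := by
  intro b
  rw [← hg, smul_inv_smul]

/-- The idempotent of `E` is invariant under the decomposition group, and orthogonal to its other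
conjugates. -/
theorem Good.exists_idem_group (h : Good A B E) (G : Type u) [Group G] [MulSemiringAction G B]
    [SMulCommClass G A B] : ∃ e : C A B, e * e = e ∧ π A B E e = 1 ∧
    (∀ x, π A B E x = 0 → e * x = 0) ∧
    (∀ g : G, InDec B E g → σ A B g e = e) ∧
    (∀ g : G, ¬ InDec B E g → e * σ A B g e = 0) := by
  obtain ⟨e, hee, hπe, hker, heq, hothers⟩ := h.exists_idem
  have hq := h.isMaximal_𝔮
  have hσ : ∀ g : G, Function.Surjective (σ A B g) := by
    intro g x
    refine ⟨σ A B g⁻¹ x, ?_⟩
    rw [← σ_mul, mul_inv_cancel, σ_one]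
  have hmem : ∀ P : Ideal (C A B), P.IsMaximal → (e ∉ P ↔ P = 𝔮 A B E) := by
    intro P hP
    constructor
    · intro h1
      by_contra h2
      exact h1 (hothers P hP h2)
    · rintro rfl
      exact heq
  have hmem' : ∀ P : Ideal (C A B), P.IsMaximal → ∀ g : G, 
      (σ A B g e ∉ P ↔ P.comap (σ A B g) = 𝔮 A B E) := by
    intro P hP g
    have hP' : (P.comap (σ A B g)).IsMaximal := Ideal.comap_isMaximal_of_surjective _ (hσ g)
    rw [← hmem _ hP', Ideal.mem_comap]
  have hcomap : ∀ (P : Ideal (C A B)) (g : G), (P.comap (σ A B g)).comap (σ A B g⁻¹) = P := by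
    intro P g
    ext x
    rw [Ideal.mem_comap, Ideal.mem_comap, ← σ_mul, mul_inv_cancel, σ_one]
  refine ⟨e, hee, hπe, hker, fun g hg => ?_, fun g hg => ?_⟩
  · apply idem_eq _ hee
    · intro P hP
      rw [← not_iff_not, hmem' P hP, hmem P hP]
      constructor
      · intro h1
        rw [← hcomap P g, h1]
        exact (comap_σ_eq_iff h g⁻¹).mpr hg.inv
      · rintro rfl
        exact (comap_σ_eq_iff h g).mpr hg
    · rw [← map_mul, hee]
  · apply idem_eq
    · calc e * σ A B g e * (e * σ A B g e) = (e * e) * (σ A B g e * σ A B g e) := by ring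
        _ = e * σ A B g e := by rw [hee, ← map_mul, hee]
    · simp
    · intro P hP
      refine ⟨fun _ => P.zero_mem, fun _ => ?_⟩
      by_contra hcon
      have h1 : e ∉ P := fun h2 => hcon (P.mul_mem_right _ h2)
      have h2 : σ A B g e ∉ P := fun h2 => hcon (P.mul_mem_left _ h2)
      rw [hmem' P hP] at h2
      rw [hmem P hP] at h1
      rw [h1] at h2
      exact hg ((comap_σ_eq_iff h g).mp h2)

/-- The map `Â ⊗ B → E` is equivariant. -/
theorem Good.π_σ (h : Good A B E) (g : G) (ρ : E →+* E)
    (hρ : ∀ b : B, ρ (algebraMap B E b) = algebraMap B E (g • b)) (x : C A B) :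
    π A B E (σ A B g x) = ρ (π A B E x) := by
  have hH := h.hausdorff
  have hA : ∀ a : A, ρ (algebraMap A E a) = algebraMap A E a := by
    intro a
    rw [IsScalarTower.algebraMap_apply A B E, hρ, smul_algebraMap]
  have h1 : ρ.comp (algebraMap (AdicCompletion (maximalIdeal A) A) E) =
      algebraMap (AdicCompletion (maximalIdeal A) A) E := by
    apply ringHom_ext (maximalIdeal A) (IsNoetherian.noetherian _)
      ((maximalIdeal A).map (algebraMap A E))
    · intro a
      rw [RingHom.comp_apply, ← IsScalarTower.algebraMap_apply, hA]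
    · intro a ha
      rw [RingHom.comp_apply, ← IsScalarTower.algebraMap_apply, hA]
      exact Ideal.mem_map_of_mem _ ha
  induction x using TensorProduct.induction_on with
  | zero => simp
  | tmul a b =>
    rw [σ_tmul, π_tmul, π_tmul, map_mul, hρ]
    congr 1
    exact (RingHom.congr_fun h1 a).symm
  | add x y hx hy => simp only [map_add, hx, hy]

/-- Invariants of the decomposition group on the completed local ring. -/
theorem Good.exists_of_invariant (h : Good A B E) [Finite G] [Algebra.IsInvariant A B G]
    (D : Subgroup G) (hD : ∀ g : G, g ∈ D ↔ InDec B E g) (ρ : D → E →+* E)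
    (hρ : ∀ (g : D) (b : B), ρ g (algebraMap B E b) = algebraMap B E ((g : G) • b))
    (x : E) (hx : ∀ g, ρ g x = x) :
    ∃ a : AdicCompletion (maximalIdeal A) A, algebraMap _ E a = x := by
  classical
  cases nonempty_fintype G
  obtain ⟨e, hee, hπe, hker, he1, he2⟩ := h.exists_idem_group G
  obtain ⟨c, hc⟩ := h.surjective x
  set z := e * c with hz
  have hzD : ∀ g ∈ D, σ A B g z = z := by
    intro g hg
    have h1 : e * (σ A B g c - c) = 0 := by
      apply hker
      rw [map_sub, h.π_σ g (ρ ⟨g, hg⟩) (hρ ⟨g, hg⟩), hc, hx, sub_self]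
    rw [hz, map_mul, he1 g ((hD g).mp hg)]
    rw [mul_sub, sub_eq_zero] at h1
    exact h1
  let y : C A B := ∑ q : G ⧸ D, σ A B q.out z
  have hcoset : ∀ g : G, σ A B (QuotientGroup.mk (s := D) g).out z = σ A B g z := by
    intro g
    obtain ⟨d, hd⟩ := QuotientGroup.mk_out_eq_mul D g
    rw [hd, σ_mul, hzD _ d.2]
  have hyinv : ∀ g : G, σ A B g y = y := by
    intro g
    rw [map_sum]
    have h1 : ∀ q : G ⧸ D, σ A B g (σ A B q.out z) = σ A B (g • q).out z := by
      intro q
      have h2 : g • q = QuotientGroup.mk (s := D) (g * q.out) := by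
        conv_lhs => rw [← QuotientGroup.out_eq' q]
        rfl
      rw [h2, hcoset, σ_mul]
    simp_rw [h1]
    exact Equiv.sum_comp (MulAction.toPerm g) (fun q : G ⧸ D => σ A B q.out z)
  obtain ⟨a, ha⟩ := exists_of_σ_invariant A B y hyinv
  refine ⟨a, ?_⟩
  have h3 : π A B E y = algebraMap _ E a := by
    rw [← ha, AlgHom.commutes]
  rw [← h3]
  have h4 : e * y = z := by
    rw [Finset.mul_sum, Finset.sum_eq_single (QuotientGroup.mk (s := D) 1)]
    · rw [hcoset, σ_one, hz, ← mul_assoc, hee]
    · intro q _ hq
      have h5 : q.out ∉ D := by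
        intro h6
        apply hq
        rw [← QuotientGroup.out_eq' q, eq_comm, QuotientGroup.eq]
        simpa using h6
      have h7 := he2 q.out (fun h8 => h5 ((hD _).mpr h8))
      rw [hz, map_mul, ← mul_assoc, h7, zero_mul]
    · intro h; exact absurd (Finset.mem_univ _) h
  calc π A B E y = π A B E (e * y) := by rw [map_mul, hπe, one_mul]
    _ = x := by rw [h4, hz, map_mul, hπe, one_mul, hc]

/-- `Â → E` is injective. -/
theorem Good.algebraMap_injective (h : Good A B E) (G : Type u) [Group G] [MulSemiringAction G B]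
    [SMulCommClass G A B] [Finite G] [Algebra.IsInvariant A B G]
    (hinj : Function.Injective (algebraMap A B)) :
    Function.Injective (algebraMap (AdicCompletion (maximalIdeal A) A) E) := by
  classical
  cases nonempty_fintype G
  obtain ⟨e, hee, hπe, hker, he1, he2⟩ := h.exists_idem_group G
  let D : Subgroup G :=
    { carrier := {g | InDec B E g}
      one_mem' := fun b => by rw [one_smul]
      mul_mem' := fun {g g'} hg hg' b => by rw [mul_smul, hg, hg']
      inv_mem' := fun {g} hg => InDec.inv hg }
  have hD : ∀ g : G, g ∈ D ↔ InDec B E g := fun g => Iff.rfl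
  let y : C A B := ∑ q : G ⧸ D, σ A B q.out e
  have hcoset : ∀ g : G, σ A B (QuotientGroup.mk (s := D) g).out e = σ A B g e := by
    intro g
    obtain ⟨d, hd⟩ := QuotientGroup.mk_out_eq_mul D g
    rw [hd, σ_mul, he1 _ ((hD _).mp d.2)]
  have hyinv : ∀ g : G, σ A B g y = y := by
    intro g
    rw [map_sum]
    have h1 : ∀ q : G ⧸ D, σ A B g (σ A B q.out e) = σ A B (g • q).out e := by
      intro q
      have h2 : g • q = QuotientGroup.mk (s := D) (g * q.out) := by
        conv_lhs => rw [← QuotientGroup.out_eq' q]
        rfl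
      rw [h2, hcoset, σ_mul]
    simp_rw [h1]
    exact Equiv.sum_comp (MulAction.toPerm g) (fun q : G ⧸ D => σ A B q.out e)
  obtain ⟨a, ha⟩ := exists_of_σ_invariant A B y hyinv
  have hCinj := algebraMap_C_injective A B hinj
  have horth : ∀ g g' : G, QuotientGroup.mk (s := D) g ≠ QuotientGroup.mk g' →
      σ A B g e * σ A B g' e = 0 := by
    intro g g' hne
    have h1 : ¬ InDec B E (g⁻¹ * g') := by
      intro h2
      exact hne (QuotientGroup.eq.mpr ((hD _).mpr h2))
    have h2 := he2 _ h1
    have h3 := congrArg (σ A B g) h2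
    rw [map_mul, ← σ_mul, mul_inv_cancel_left, map_zero] at h3
    exact h3
  have hey : e * y = e := by
    rw [Finset.mul_sum, Finset.sum_eq_single (QuotientGroup.mk (s := D) 1)]
    · rw [hcoset, σ_one, hee]
    · intro q _ hq
      have h5 : q.out ∉ D := by
        intro h6
        apply hq
        rw [← QuotientGroup.out_eq' q, eq_comm, QuotientGroup.eq]
        simpa using h6
      exact he2 q.out (fun h8 => h5 ((hD _).mpr h8))
    · intro h; exact absurd (Finset.mem_univ _) h
  have hyy : y * y = y := by
    have h1 : ∀ q : G ⧸ D, σ A B q.out e * y = σ A B q.out e := by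
      intro q
      conv_lhs => rw [← hyinv q.out, ← map_mul, hey]
    rw [Finset.sum_mul]
    exact Finset.sum_congr rfl (fun q _ => h1 q)
  have haa : a * a = a := by
    apply hCinj
    rw [map_mul, ha, hyy]
  have ha1 : a = 1 := by
    have h1 : a * (1 - a) = 0 := by rw [mul_sub, haa, mul_one, sub_self]
    have h2 : IsUnit a := by
      by_contra hcon
      have h3 : IsUnit (1 - a) := by
        rcases IsLocalRing.isUnit_or_isUnit_one_sub_self a with h4 | h4
        · exact absurd h4 hcon
        · exact h4
      have h4 := (h3.mul_left_eq_zero).mp h1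
      rw [h4, map_zero] at ha
      rw [← ha, mul_zero] at hey
      rw [← hey, map_zero] at hπe
      exact zero_ne_one hπe
    have h3 := (h2.mul_right_eq_zero).mp h1
    exact (sub_eq_zero.mp h3).symm
  have hy1 : y = 1 := by rw [← ha, ha1, map_one]
  rw [injective_iff_map_eq_zero]
  intro r hr
  have h1 : e * algebraMap _ (C A B) r = 0 := by
    apply hker
    rw [AlgHom.commutes, hr]
  apply hCinj
  rw [map_zero]
  calc algebraMap _ (C A B) r = y * algebraMap _ (C A B) r := by rw [hy1, one_mul]
    _ = ∑ q : G ⧸ D, σ A B q.out (e * algebraMap _ (C A B) r) := by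
      rw [Finset.sum_mul]
      refine Finset.sum_congr rfl (fun q _ => ?_)
      rw [map_mul, AlgHom.commutes]
    _ = 0 := by
      apply Finset.sum_eq_zero
      intro q _
      rw [h1, map_zero]

end main

end K364.CplCore
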