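import Mathlib.RingTheory.IsGaloisGroup.Basic
import Mathlib.FieldTheory.Galois.IsGaloisGroup
import Mathlib.RingTheory.DedekindDomain.IntegralClosure
import Mathlib.RingTheory.Unramified.LocalRing
import Mathlib.RingTheory.Localization.FractionRing
import Mathlib.RingTheory.Filtration

/-!
Finiteness of Galois extensions of normal Noetherian domains, and unramifiedness versus inertia.
-/

set_option autoImplicit false
universe u

namespace K364.GaloisFinite

/-- If a finite group `G` acts faithfully on the normal domain `S` with invariants the Noetherian
normal domain `R`, then `S` is a finite `R`-module. -/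
theorem finite_of_isGaloisGroup (R S G : Type*) [CommRing R] [CommRing S] [IsDomain R] [IsDomain S]
    [IsNoetherianRing R] [IsIntegrallyClosed R] [Algebra R S] [FaithfulSMul R S]
    [IsIntegrallyClosed S] [Group G] [Finite G] [MulSemiringAction G S] [IsGaloisGroup G R S] :
    Module.Finite R S := by
  let K := FractionRing R
  let L := FractionRing S
  let _ : Algebra K L := FractionRing.liftAlgebra R L
  have : IsScalarTower R K L := FractionRing.isScalarTower_liftAlgebra R L
  let _ := IsFractionRing.mulSemiringAction G S L
  have hG : IsGaloisGroup G K L := IsGaloisGroup.to_isFractionRing G R S K L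
  have : IsGalois K L := IsGaloisGroup.isGalois G K L
  have : FiniteDimensional K L := IsGaloisGroup.finiteDimensional G K L
  have hinv : Algebra.IsInvariant R S G := IsGaloisGroup.isInvariant
  have : Algebra.IsIntegral R S := hinv.isIntegral
  have : IsIntegralClosure S R L := inferInstance
  exact IsIntegralClosure.finite R K L S

/-- An automorphism of a Noetherian local ring unramified over `R`, trivial on `R` and on the residue
field, is trivial. -/
theorem eq_id_of_unramified (R S : Type*) [CommRing R] [CommRing S] [Algebra R S]
    [Algebra.FormallyUnramified R S] [IsLocalRing S] [IsNoetherianRing S]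
    (f : S →ₐ[R] S) (hf : ∀ s, f s - s ∈ IsLocalRing.maximalIdeal S) : f = AlgHom.id R S := by
  apply Algebra.FormallyUnramified.ext_of_iInf (I := IsLocalRing.maximalIdeal S)
  · exact Ideal.iInf_pow_eq_bot_of_isLocalRing _ (Ideal.IsPrime.ne_top inferInstance)
  · intro x
    rw [AlgHom.id_apply, Ideal.Quotient.eq]
    exact hf x

end K364.GaloisFinite
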