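import Mathlib.RingTheory.Localization.Basic
import Mathlib.RingTheory.Invariant.Basic
import Mathlib.RingTheory.Localization.Integral

/-!
The action of a group on a localization at invariant elements.
-/

set_option autoImplicit false

namespace K364.LocAction

variable {A₀ B₀ : Type*} [CommRing A₀] [CommRing B₀] [Algebra A₀ B₀] {G : Type*} [Group G]
  [MulSemiringAction G B₀] [SMulCommClass G A₀ B₀] (M : Submonoid A₀)
  (A B : Type*) [CommRing A] [CommRing B] [Algebra A₀ A] [IsLocalization M A] [Algebra B₀ B]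
  [IsLocalization (Algebra.algebraMapSubmonoid B₀ M) B]

/-- `g` acting on the localization. -/
noncomputable def locHom (g : G) : B →+* B :=
  IsLocalization.map B (MulSemiringAction.toRingHom G B₀ g)
    (M := Algebra.algebraMapSubmonoid B₀ M) (T := Algebra.algebraMapSubmonoid B₀ M)
    (by rintro _ ⟨m, hm, rfl⟩; exact ⟨m, hm, (smul_algebraMap g m).symm⟩)

@[simp] theorem locHom_algebraMap (g : G) (b : B₀) :
    locHom (B₀ := B₀) M B g (algebraMap B₀ B b) = algebraMap B₀ B (g • b) := by
  unfold locHom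
  rw [IsLocalization.map_eq]
  rfl

theorem locHom_one : locHom (B₀ := B₀) M B (1 : G) = RingHom.id B := by
  apply IsLocalization.ringHom_ext (Algebra.algebraMapSubmonoid B₀ M)
  ext b
  simp

theorem locHom_mul (g h : G) : locHom (B₀ := B₀) M B (g * h) =
    (locHom (B₀ := B₀) M B g).comp (locHom (B₀ := B₀) M B h) := by
  apply IsLocalization.ringHom_ext (Algebra.algebraMapSubmonoid B₀ M)
  ext b
  simp [mul_smul]

/-- The action on the localization. -/
noncomputable abbrev action (G B₀ : Type*) [CommRing B₀] [Algebra A₀ B₀] [Group G]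
    [MulSemiringAction G B₀] [SMulCommClass G A₀ B₀] (B : Type*) [CommRing B] [Algebra B₀ B]
    [IsLocalization (Algebra.algebraMapSubmonoid B₀ M) B] : MulSemiringAction G B where
  smul g x := locHom (B₀ := B₀) M B g x
  one_smul x := by
    change locHom (B₀ := B₀) M B (1 : G) x = x
    rw [locHom_one]; rfl
  mul_smul g h x := by
    change locHom (B₀ := B₀) M B (g * h) x = _
    rw [locHom_mul]; rfl
  smul_zero g := map_zero _
  smul_add g := map_add _
  smul_one g := map_one _
  smul_mul g := map_mul _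

theorem smul_def (g : G) (x : B) :
    letI := action M G B₀ B
    g • x = locHom (B₀ := B₀) M B g x := rfl

theorem action_smul_algebraMap (g : G) (b : B₀) :
    letI := action M G B₀ B
    g • (algebraMap B₀ B b) = algebraMap B₀ B (g • b) :=
  locHom_algebraMap M B g b

variable [Algebra A B] [Algebra A₀ B] [IsScalarTower A₀ A B] [IsScalarTower A₀ B₀ B]

include M in
theorem action_smulCommClass :
    letI := action M G B₀ B
    SMulCommClass G A B := by
  let _ := action M G B₀ B
  have h1 : ∀ g : G, (locHom (B₀ := B₀) M B g).comp (algebraMap A B) = algebraMap A B := by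
    intro g
    apply IsLocalization.ringHom_ext M
    ext a
    rw [RingHom.comp_apply, RingHom.comp_apply, RingHom.comp_apply,
      ← IsScalarTower.algebraMap_apply, IsScalarTower.algebraMap_apply A₀ B₀ B, locHom_algebraMap,
      smul_algebraMap]
  constructor
  intro g a b
  rw [Algebra.smul_def, Algebra.smul_def, smul_mul']
  congr 1
  exact RingHom.congr_fun (h1 g) a

theorem action_isInvariant [Finite G] [Algebra.IsInvariant A₀ B₀ G] :
    letI := action M G B₀ B
    Algebra.IsInvariant A B G := by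
  let _ := action M G B₀ B
  classical
  cases nonempty_fintype G
  constructor
  intro x hx
  obtain ⟨b, s, rfl⟩ := IsLocalization.exists_mk'_eq (Algebra.algebraMapSubmonoid B₀ M) x
  obtain ⟨_, s, hs, rfl⟩ := s
  have h1 : ∀ g : G, ∃ t : M, algebraMap A₀ B₀ t * (g • b) = algebraMap A₀ B₀ t * b := by
    intro g
    have h2 := IsLocalization.mk'_spec' B b (⟨algebraMap A₀ B₀ s, s, hs, rfl⟩ :
      Algebra.algebraMapSubmonoid B₀ M)
    have h3 := congrArg (locHom (B₀ := B₀) M B g) h2
    rw [map_mul, locHom_algebraMap, locHom_algebraMap] at h3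
    have h4 : locHom (B₀ := B₀) M B g (IsLocalization.mk' B b (⟨algebraMap A₀ B₀ s, s, hs, rfl⟩ :
      Algebra.algebraMapSubmonoid B₀ M)) = IsLocalization.mk' B b (⟨algebraMap A₀ B₀ s, s, hs, rfl⟩ :
      Algebra.algebraMapSubmonoid B₀ M) := hx g
    rw [h4] at h3
    change algebraMap B₀ B (g • algebraMap A₀ B₀ s) * _ = _ at h3
    rw [smul_algebraMap] at h3
    have h5 : algebraMap B₀ B (g • b) = algebraMap B₀ B b := by rw [← h3, ← h2]
    rw [IsLocalization.eq_iff_exists (Algebra.algebraMapSubmonoid B₀ M)] at h5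
    obtain ⟨⟨_, t, ht, rfl⟩, h6⟩ := h5
    exact ⟨⟨t, ht⟩, h6⟩
  choose t ht using h1
  have h2 : ∀ g : G, g • (algebraMap A₀ B₀ (∏ h, (t h : A₀)) * b) =
      algebraMap A₀ B₀ (∏ h, (t h : A₀)) * b := by
    intro g
    rw [smul_mul', smul_algebraMap, ← Finset.mul_prod_erase _ _ (Finset.mem_univ g), map_mul,
      mul_comm (algebraMap A₀ B₀ _) (algebraMap A₀ B₀ _), mul_assoc, ht, mul_assoc]
  obtain ⟨a, ha⟩ := Algebra.IsInvariant.isInvariant (A := A₀) (G := G) _ h2
  refine ⟨IsLocalization.mk' A a ((∏ h, t h) * ⟨s, hs⟩), ?_⟩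
  have hu : IsUnit (algebraMap A₀ B ((∏ h, t h) * ⟨s, hs⟩ : M)) := by
    rw [IsScalarTower.algebraMap_apply A₀ A B]
    exact (IsLocalization.map_units A ((∏ h, t h) * ⟨s, hs⟩ : M)).map (algebraMap A B)
  apply hu.mul_left_cancel
  have h3 : algebraMap A₀ B ((∏ h, t h) * ⟨s, hs⟩ : M) *
      algebraMap A B (IsLocalization.mk' A a ((∏ h, t h) * ⟨s, hs⟩)) = algebraMap A₀ B a := by
    rw [IsScalarTower.algebraMap_apply A₀ A B, ← map_mul, IsLocalization.mk'_spec',
      ← IsScalarTower.algebraMap_apply]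
  have h4 : algebraMap B₀ B (algebraMap A₀ B₀ s) *
      IsLocalization.mk' B b (⟨algebraMap A₀ B₀ s, s, hs, rfl⟩ :
      Algebra.algebraMapSubmonoid B₀ M) = algebraMap B₀ B b :=
    IsLocalization.mk'_spec' B b (⟨algebraMap A₀ B₀ s, s, hs, rfl⟩ :
      Algebra.algebraMapSubmonoid B₀ M)
  have h5 : algebraMap A₀ B ((∏ h, t h) * ⟨s, hs⟩ : M) =
      algebraMap B₀ B (algebraMap A₀ B₀ (∏ h, (t h : A₀))) * algebraMap B₀ B (algebraMap A₀ B₀ s) := by
    rw [← map_mul, ← map_mul, ← IsScalarTower.algebraMap_apply]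
    congr 1
    simp
  rw [h3, IsScalarTower.algebraMap_apply A₀ B₀ B, ha, map_mul, ← h4, h5, mul_assoc]

end K364.LocAction
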