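import Groth.Agent.EtAlg.K364.CplGood
import Groth.Agent.EtAlg.K364.CplGroup
import Groth.Agent.EtAlg.K364.LocAction
import Groth.Agent.EtAlg.K364.GaloisFinite
import Mathlib.RingTheory.Localization.LocalizationLocalization
import Mathlib.RingTheory.Localization.Finiteness
import Mathlib.RingTheory.Ideal.Pointwise

/-!
The decomposition group is a Galois group for the extension of completed local rings.
-/

set_option autoImplicit false
universe u
open IsLocalRing TensorProduct
open scoped Pointwise

namespace K364.CplCore

theorem isLocalization_comap_maximalIdeal {S : Type*} [CommRing S] (M : Submonoid S)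
    (Q : Ideal S) [Q.IsPrime] (B L : Type*) [CommRing B] [CommRing L] [IsLocalRing L]
    [Algebra S B] [IsLocalization M B] [Algebra S L] [IsLocalization.AtPrime L Q] [Algebra B L]
    [IsScalarTower S B L] (hM : M ≤ Q.primeCompl) :
    IsLocalization.AtPrime L ((maximalIdeal L).comap (algebraMap B L)) := by
  have h1 : IsLocalization (Q.primeCompl.map (algebraMap S B)) L :=
    IsLocalization.isLocalization_of_submonoid_le B L M Q.primeCompl hM
  refine IsLocalization.isLocalization_of_is_exists_mul_mem L (Q.primeCompl.map (algebraMap S B))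
    _ ?_ ?_
  · rintro _ ⟨s, hs, rfl⟩ h2
    rw [SetLike.mem_coe, Ideal.mem_comap, ← IsScalarTower.algebraMap_apply] at h2
    exact (IsLocalRing.mem_maximalIdeal _).mp h2 (IsLocalization.map_units L (⟨s, hs⟩ : Q.primeCompl))
  · rintro ⟨x, hx⟩
    obtain ⟨s, m, rfl⟩ := IsLocalization.exists_mk'_eq M x
    refine ⟨algebraMap S B m, s, ?_, ?_⟩
    · intro hs
      apply hx
      rw [SetLike.mem_coe, Ideal.mem_comap]
      have h3 : algebraMap B L (IsLocalization.mk' B s m) * algebraMap S L m = algebraMap S L s := by
        rw [IsScalarTower.algebraMap_apply S B L, ← map_mul, IsLocalization.mk'_spec,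
          ← IsScalarTower.algebraMap_apply]
      have h4 : algebraMap S L s ∈ maximalIdeal L := by
        rw [← IsLocalization.AtPrime.map_eq_maximalIdeal Q L]
        exact Ideal.mem_map_of_mem _ hs
      rw [← h3] at h4
      have h5 : IsUnit (algebraMap S L m) := IsLocalization.map_units L (⟨m, hM m.2⟩ : Q.primeCompl)
      exact (Ideal.mul_unit_mem_iff_mem _ h5).mp h4
    · rw [mul_comm, IsLocalization.mk'_spec]

theorem isGaloisGroup_cpl (R S G : Type u) [CommRing R] [CommRing S] [IsDomain R] [IsDomain S]
    [IsNoetherianRing R] [IsIntegrallyClosed R] [IsIntegrallyClosed S]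
    [Algebra R S] [FaithfulSMul R S]
    [Group G] [Finite G] [MulSemiringAction G S] [SMulCommClass G R S] [IsGaloisGroup G R S]
    (P : Ideal R) [P.IsPrime] (Q : Ideal S) [Q.IsPrime] [Q.LiesOver P]
    (A B L : Type u) [CommRing A] [CommRing B] [CommRing L] [IsLocalRing A] [IsLocalRing L]
    [Algebra R A] [IsLocalization.AtPrime A P] [Algebra S B]
    [IsLocalization (Algebra.algebraMapSubmonoid S P.primeCompl) B]
    [Algebra S L] [IsLocalization.AtPrime L Q] [Algebra R B] [Algebra A B] [Algebra R L]
    [Algebra A L] [Algebra B L] [IsScalarTower R A B] [IsScalarTower R S B] [IsScalarTower R A L]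
    [IsScalarTower R S L] [IsScalarTower S B L] [IsScalarTower A B L]
    [MulSemiringAction (MulAction.stabilizer G Q) (AdicCompletion (maximalIdeal L) L)]
    (hact : ∀ (g : MulAction.stabilizer G Q) (s : S),
      g • algebraMap L (AdicCompletion (maximalIdeal L) L) (algebraMap S L s) =
        algebraMap L (AdicCompletion (maximalIdeal L) L) (algebraMap S L (g • s)))
    [Algebra (AdicCompletion (maximalIdeal A) A) (AdicCompletion (maximalIdeal L) L)]
    (halg : ∀ r : R,
      algebraMap (AdicCompletion (maximalIdeal A) A) (AdicCompletion (maximalIdeal L) L)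
        (algebraMap A (AdicCompletion (maximalIdeal A) A) (algebraMap R A r)) =
        algebraMap L (AdicCompletion (maximalIdeal L) L) (algebraMap S L (algebraMap R S r))) :
    IsGaloisGroup (MulAction.stabilizer G Q) (AdicCompletion (maximalIdeal A) A)
      (AdicCompletion (maximalIdeal L) L) := by
  have hinv0 : Algebra.IsInvariant R S G := IsGaloisGroup.isInvariant
  have hfaith : FaithfulSMul G S := IsGaloisGroup.faithful R
  have hRS : Module.Finite R S := GaloisFinite.finite_of_isGaloisGroup R S G
  have hAB : Module.Finite A B := Module.Finite.of_isLocalization R S P.primeCompl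
  have hA : IsNoetherianRing A := IsLocalization.isNoetherianRing P.primeCompl A inferInstance
  have hM : Algebra.algebraMapSubmonoid S P.primeCompl ≤ Q.primeCompl := by
    rintro _ ⟨r, hr, rfl⟩ h1
    apply hr
    rw [SetLike.mem_coe, Ideal.LiesOver.over (p := P) (P := Q)]
    exact h1
  let 𝔫 : Ideal B := (maximalIdeal L).comap (algebraMap B L)
  have h𝔫L : IsLocalization.AtPrime L 𝔫 := isLocalization_comap_maximalIdeal
    (Algebra.algebraMapSubmonoid S P.primeCompl) Q B L hM
  have hmA : (maximalIdeal L).comap (algebraMap A L) = maximalIdeal A := by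
    apply le_antisymm (IsLocalRing.le_maximalIdeal (Ideal.IsPrime.ne_top inferInstance))
    rw [← IsLocalization.AtPrime.map_eq_maximalIdeal P A, Ideal.map_le_iff_le_comap,
      Ideal.comap_comap, ← IsScalarTower.algebraMap_eq, IsScalarTower.algebraMap_eq R S L,
      ← Ideal.comap_comap, ← Ideal.map_le_iff_le_comap]
    rw [← Ideal.map_le_iff_le_comap, ← IsLocalization.AtPrime.map_eq_maximalIdeal Q L]
    apply Ideal.map_mono
    rw [Ideal.map_le_iff_le_comap]
    exact (Ideal.LiesOver.over (p := P) (P := Q)).le
  have h𝔫 : 𝔫.IsMaximal := by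
    apply Ideal.isMaximal_of_isIntegral_of_isMaximal_comap (R := A)
    rw [Ideal.comap_comap, ← IsScalarTower.algebraMap_eq, hmA]
    infer_instance
  have hL : IsNoetherianRing L := isNoetherianRing_loc A B 𝔫 L
  have htower : IsScalarTower A (AdicCompletion (maximalIdeal A) A)
      (AdicCompletion (maximalIdeal L) L) := by
    apply IsScalarTower.of_algebraMap_eq'
    apply IsLocalization.ringHom_ext P.primeCompl
    ext r
    simp only [RingHom.comp_apply]
    rw [halg, IsScalarTower.algebraMap_apply A L, ← IsScalarTower.algebraMap_apply R A L,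
      IsScalarTower.algebraMap_apply R S L]
  have hgood : Good A B (AdicCompletion (maximalIdeal L) L) := good_cpl A B 𝔫 L
  let _ := LocAction.action P.primeCompl G S B
  have hcomm : SMulCommClass G A B := LocAction.action_smulCommClass P.primeCompl A B
  have hinv : Algebra.IsInvariant A B G := LocAction.action_isInvariant P.primeCompl A B
  have hsmul : ∀ (g : G) (s : S), g • algebraMap S B s = algebraMap S B (g • s) := fun g s =>
    LocAction.action_smul_algebraMap P.primeCompl B g s
  have hff : Module.FaithfullyFlat L (AdicCompletion (maximalIdeal L) L) :=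
    Module.FaithfullyFlat.of_flat_of_isLocalHom
  have hmem : ∀ s : S, algebraMap B (AdicCompletion (maximalIdeal L) L) (algebraMap S B s) ∈
      maximalIdeal (AdicCompletion (maximalIdeal L) L) ↔ s ∈ Q := by
    intro s
    rw [IsScalarTower.algebraMap_apply B L, ← IsScalarTower.algebraMap_apply S B L,
      ← Ideal.mem_comap, ← IsLocalization.AtPrime.under_maximalIdeal L Q]
    have h5 : IsLocalHom (algebraMap L (AdicCompletion (maximalIdeal L) L)) := inferInstance
    have h6 : (maximalIdeal (AdicCompletion (maximalIdeal L) L)).comap
        (algebraMap L (AdicCompletion (maximalIdeal L) L)) = maximalIdeal L :=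
      ((IsLocalRing.local_hom_TFAE (algebraMap L (AdicCompletion (maximalIdeal L) L))).out 0 4).mp h5
    rw [h6]
    rfl
  have hρ : ∀ (g : MulAction.stabilizer G Q) (b : B),
      MulSemiringAction.toRingHom _ (AdicCompletion (maximalIdeal L) L) g
        (algebraMap B (AdicCompletion (maximalIdeal L) L) b) =
      algebraMap B (AdicCompletion (maximalIdeal L) L) ((g : G) • b) := by
    intro g
    have h1 : (MulSemiringAction.toRingHom _ (AdicCompletion (maximalIdeal L) L) g).comp
        (algebraMap B (AdicCompletion (maximalIdeal L) L)) =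
        (algebraMap B (AdicCompletion (maximalIdeal L) L)).comp
          (MulSemiringAction.toRingHom G B (g : G)) := by
      apply IsLocalization.ringHom_ext (Algebra.algebraMapSubmonoid S P.primeCompl)
      ext s
      simp only [RingHom.comp_apply, MulSemiringAction.toRingHom_apply]
      rw [hsmul, IsScalarTower.algebraMap_apply B L, ← IsScalarTower.algebraMap_apply S B L,
        hact, IsScalarTower.algebraMap_apply B L, ← IsScalarTower.algebraMap_apply S B L]
      rfl
    intro b
    exact RingHom.congr_fun h1 b
  have hD : ∀ g : G, g ∈ MulAction.stabilizer G Q ↔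
      InDec B (AdicCompletion (maximalIdeal L) L) g := by
    intro g
    rw [MulAction.mem_stabilizer_iff]
    constructor
    · intro hg b
      obtain ⟨s, m, rfl⟩ := IsLocalization.exists_mk'_eq
        (Algebra.algebraMapSubmonoid S P.primeCompl) b
      have hu : IsUnit (algebraMap S B m) := IsLocalization.map_units B m
      have hm : g • algebraMap S B m = algebraMap S B m := by
        rw [hsmul]
        obtain ⟨_, r, hr, rfl⟩ := m
        change algebraMap S B (g • algebraMap R S r) = algebraMap S B (algebraMap R S r)
        rw [smul_algebraMap]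
      have h2 : ∀ b : B, algebraMap B (AdicCompletion (maximalIdeal L) L) b ∈
          maximalIdeal (AdicCompletion (maximalIdeal L) L) ↔
          algebraMap B (AdicCompletion (maximalIdeal L) L) (b * algebraMap S B m) ∈
          maximalIdeal (AdicCompletion (maximalIdeal L) L) := by
        intro b
        rw [map_mul, Ideal.mul_unit_mem_iff_mem _ (hu.map _)]
      rw [h2, h2 (IsLocalization.mk' B s m), IsLocalization.mk'_spec, ← hm, ← smul_mul',
        IsLocalization.mk'_spec, hsmul, hmem, hmem]
      conv_lhs => rw [← hg]
      rw [Ideal.smul_mem_pointwise_smul_iff]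
    · intro hg
      ext s
      have h3 := hg (algebraMap S B (g⁻¹ • s))
      rw [hsmul, smul_inv_smul, hmem, hmem] at h3
      rw [Ideal.mem_pointwise_smul_iff_inv_smul_mem, ← h3]
  refine ⟨⟨fun {g g'} h => ?_⟩, ⟨fun g a x => ?_⟩, ⟨fun x hx => ?_⟩⟩
  · apply Subtype.ext
    apply hfaith.eq_of_smul_eq_smul
    intro s
    have h1 : Function.Injective (algebraMap L (AdicCompletion (maximalIdeal L) L)) :=
      FaithfulSMul.algebraMap_injective _ _
    have h2 : Function.Injective (algebraMap S L) :=
      IsLocalization.injective L (Ideal.primeCompl_le_nonZeroDivisors Q)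
    apply h2
    apply h1
    have h3 := h (algebraMap L (AdicCompletion (maximalIdeal L) L) (algebraMap S L s))
    rw [hact, hact] at h3
    exact h3
  · rw [Algebra.smul_def, Algebra.smul_def, smul_mul']
    congr 1
    have h4 := hgood.π_σ (g : G) (MulSemiringAction.toRingHom _ _ g) (hρ g)
      (algebraMap _ (C A B) a)
    rw [AlgHom.commutes, AlgHom.commutes] at h4
    exact h4.symm
  · exact hgood.exists_of_invariant (MulAction.stabilizer G Q) hD
      (fun g => MulSemiringAction.toRingHom _ _ g) hρ x hx

end K364.CplCore
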