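import Groth.Agent.EtAlg.K364.CplCore
import Mathlib.RingTheory.Flat.FaithfullyFlat.Algebra
import Mathlib.RingTheory.Localization.AtPrime.Basic
import Mathlib.RingTheory.Localization.Ideal

/-!
The completion of the local ring of a finite algebra `B` over a Noetherian local ring `A` at a maximal
ideal is `Good A B`.
-/

set_option autoImplicit false
universe u
open IsLocalRing TensorProduct

namespace K364.CplCore

section

variable (A B : Type u) [CommRing A] [IsLocalRing A] [IsNoetherianRing A]
  [CommRing B] [Algebra A B] [Module.Finite A B] (𝔫 : Ideal B) [𝔫.IsMaximal]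
  (L : Type u) [CommRing L] [IsLocalRing L] [Algebra B L] [IsLocalization.AtPrime L 𝔫]
  [Algebra A L] [IsScalarTower A B L]

include A 𝔫 in
omit [IsLocalRing A] [IsLocalRing L] [Algebra A L] [IsScalarTower A B L] in
theorem isNoetherianRing_loc : IsNoetherianRing L :=
  have : IsNoetherianRing B := IsNoetherianRing.of_finite A B
  IsLocalization.isNoetherianRing 𝔫.primeCompl L inferInstance

include B 𝔫 in
omit [IsNoetherianRing A] in
theorem map_maximalIdeal_le_loc : (maximalIdeal A).map (algebraMap A L) ≤ maximalIdeal L := by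
  have h2 : (𝔫.comap (algebraMap A B)).IsMaximal :=
    Ideal.isMaximal_comap_of_isIntegral_of_isMaximal _
  have h3 : maximalIdeal A = 𝔫.comap (algebraMap A B) := (IsLocalRing.eq_maximalIdeal h2).symm
  have h4 : (maximalIdeal A).map (algebraMap A B) ≤ 𝔫 := by
    rw [h3]; exact Ideal.map_comap_le
  rw [IsScalarTower.algebraMap_eq A B L, ← Ideal.map_map]
  refine (Ideal.map_mono h4).trans ?_
  rw [IsLocalization.AtPrime.map_eq_maximalIdeal 𝔫 L]

include B 𝔫 in
theorem exists_pow_le_loc :
    ∃ N : ℕ, (maximalIdeal L) ^ N ≤ (maximalIdeal A).map (algebraMap A L) := by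
  have : IsNoetherianRing L := isNoetherianRing_loc A B 𝔫 L
  apply Ideal.exists_pow_le_of_le_radical_of_fg _ (IsNoetherian.noetherian _)
  rw [Ideal.radical_eq_sInf, le_sInf_iff]
  rintro p ⟨hp, hprime⟩
  have h1 : maximalIdeal A ≤ p.comap (algebraMap A L) := Ideal.map_le_iff_le_comap.mp hp
  have h2 : (p.comap (algebraMap A L)).IsMaximal := by
    have h3 : p.comap (algebraMap A L) = maximalIdeal A :=
      le_antisymm (IsLocalRing.le_maximalIdeal (Ideal.IsPrime.ne_top inferInstance)) h1
    rw [h3]; infer_instance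
  rw [IsScalarTower.algebraMap_eq A B L, ← Ideal.comap_comap] at h2
  have h3 : (p.comap (algebraMap B L)).IsMaximal :=
    Ideal.isMaximal_of_isIntegral_of_isMaximal_comap _ h2
  have h4 : p.comap (algebraMap B L) ≤ 𝔫 := by
    rw [← IsLocalization.AtPrime.under_maximalIdeal L 𝔫]
    exact Ideal.comap_mono (IsLocalRing.le_maximalIdeal hprime.ne_top)
  have h5 : p.comap (algebraMap B L) = 𝔫 := h3.eq_of_le (Ideal.IsMaximal.ne_top inferInstance) h4
  rw [← IsLocalization.AtPrime.map_eq_maximalIdeal 𝔫 L, ← h5]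
  exact Ideal.map_comap_le

variable [Algebra (AdicCompletion (maximalIdeal A) A) (AdicCompletion (maximalIdeal L) L)]
  [IsScalarTower A (AdicCompletion (maximalIdeal A) A) (AdicCompletion (maximalIdeal L) L)]

include 𝔫 in
omit [Algebra (AdicCompletion (maximalIdeal A) A) (AdicCompletion (maximalIdeal L) L)]
  [IsScalarTower A (AdicCompletion (maximalIdeal A) A) (AdicCompletion (maximalIdeal L) L)] in
theorem good_cpl : Good A B (AdicCompletion (maximalIdeal L) L) := by
  have hL : IsNoetherianRing L := isNoetherianRing_loc A B 𝔫 L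
  have hle : (maximalIdeal A).map (algebraMap A L) ≤ maximalIdeal L :=
    map_maximalIdeal_le_loc A B 𝔫 L
  obtain ⟨N, hN⟩ := exists_pow_le_loc A B 𝔫 L
  have hff : Module.FaithfullyFlat L (AdicCompletion (maximalIdeal L) L) :=
    Module.FaithfullyFlat.of_flat_of_isLocalHom
  have hAE : algebraMap A (AdicCompletion (maximalIdeal L) L) =
      (algebraMap L (AdicCompletion (maximalIdeal L) L)).comp (algebraMap A L) :=
    IsScalarTower.algebraMap_eq A L _
  refine ⟨⟨fun x hx => ?_⟩, fun x => ?_, fun n b hb => ?_⟩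
  · have h1 : IsHausdorff (maximalIdeal L) (AdicCompletion (maximalIdeal L) L) :=
      (AdicCompletion.isAdicComplete (IsNoetherian.noetherian _)).toIsHausdorff
    apply h1.haus'
    intro n
    have h2 := hx n
    rw [SModEq.zero] at h2 ⊢
    rw [smul_eq_mul, Ideal.mul_top, ← Ideal.map_pow, hAE, ← Ideal.map_map, Ideal.map_pow] at h2
    have h3 := Ideal.map_mono (f := algebraMap L (AdicCompletion (maximalIdeal L) L))
      (Ideal.pow_right_mono hle n) h2
    rw [← Submodule.restrictScalars_mem L, ← Ideal.smul_top_eq_map] at h3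
    exact h3
  · obtain ⟨l, hl⟩ := exists_sub_mem (maximalIdeal L) (IsNoetherian.noetherian _) N x
    obtain ⟨b, s, rfl⟩ := IsLocalization.exists_mk'_eq 𝔫.primeCompl l
    have h1 : ∃ t, 1 - t * (s : B) ∈ 𝔫 ^ N := by
      have h3 : 𝔫 ^ N ⊔ Ideal.span {(s : B)} = ⊤ := by
        rw [← Ideal.isCoprime_iff_sup_eq]
        apply IsCoprime.pow_left
        rw [Ideal.isCoprime_iff_sup_eq]
        by_contra hcon
        have h4 := (inferInstance : 𝔫.IsMaximal).eq_of_le hcon le_sup_left
        have h5 : (s : B) ∈ 𝔫 :=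
          h4.symm.le (Ideal.mem_sup_right (Ideal.mem_span_singleton_self _))
        exact s.2 h5
      have h4 : (1 : B) ∈ 𝔫 ^ N ⊔ Ideal.span {(s : B)} := by rw [h3]; trivial
      obtain ⟨p, hp, q, hq, hpq⟩ := Submodule.mem_sup.mp h4
      obtain ⟨t, rfl⟩ := Ideal.mem_span_singleton'.mp hq
      refine ⟨t, ?_⟩
      rwa [← hpq, add_sub_cancel_right]
    obtain ⟨t, ht⟩ := h1
    refine ⟨b * t, ?_⟩
    have h6 : IsLocalization.mk' L b s - algebraMap B L (b * t) ∈ (maximalIdeal L) ^ N := by
      have h7 : IsLocalization.mk' L b s - algebraMap B L (b * t) =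
          IsLocalization.mk' L b s * algebraMap B L (1 - t * s) := by
        rw [map_sub, map_one, map_mul, map_mul, mul_sub, mul_one]
        congr 1
        have h8 := IsLocalization.mk'_spec L b s
        rw [← h8]; ring
      rw [h7]
      apply Ideal.mul_mem_left
      rw [← IsLocalization.AtPrime.map_eq_maximalIdeal 𝔫 L, ← Ideal.map_pow]
      exact Ideal.mem_map_of_mem _ ht
    have h9 := Ideal.add_mem _ hl (Ideal.mem_map_of_mem
      (algebraMap L (AdicCompletion (maximalIdeal L) L)) h6)
    rw [map_sub, sub_add_sub_cancel, ← IsScalarTower.algebraMap_apply] at h9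
    have h10 := Ideal.map_mono (f := algebraMap L (AdicCompletion (maximalIdeal L) L)) hN h9
    rwa [Ideal.map_map, ← hAE] at h10
  · rw [IsScalarTower.algebraMap_apply B L, hAE, ← Ideal.map_map] at hb
    have h1 : algebraMap B L b ∈ (((maximalIdeal A) ^ n).map (algebraMap A L)) := by
      rw [← Ideal.comap_map_eq_self_of_faithfullyFlat (B := AdicCompletion (maximalIdeal L) L)
        (((maximalIdeal A) ^ n).map (algebraMap A L))]
      exact hb
    rw [IsScalarTower.algebraMap_eq A B L, ← Ideal.map_map,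
      IsLocalization.algebraMap_mem_map_algebraMap_iff 𝔫.primeCompl] at h1
    obtain ⟨u, hu, hub⟩ := h1
    refine ⟨u, ?_, hub⟩
    rw [IsScalarTower.algebraMap_apply B L]
    exact (IsLocalization.map_units L (⟨u, hu⟩ : 𝔫.primeCompl)).map _

end

end K364.CplCore
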