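import Groth.Agent.EtAlg.K364.CplCore
import Mathlib.RingTheory.AdicCompletion.Algebra
import Mathlib.RingTheory.AdicCompletion.LocalRing
import Mathlib.RingTheory.Localization.AtPrime.Basic
import Mathlib.RingTheory.Ideal.Pointwise
import Mathlib.RingTheory.Flat.FaithfullyFlat.Algebra

/-!
Functoriality of completions of local rings.
-/

set_option autoImplicit false
open IsLocalRing
open scoped Pointwise

namespace K364.CplMap

section general

variable {A A' : Type*} [CommRing A] [CommRing A'] (I : Ideal A) (J : Ideal A') (f : A →+* A')

theorem pow_le (h : I ≤ J.comap f) (n : ℕ) : I ^ n ≤ (J ^ n).comap f :=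
  (Ideal.pow_right_mono h n).trans (Ideal.le_comap_pow f n)

theorem map_compat (h : I ≤ J.comap f) {m n : ℕ} (hle : m ≤ n) :
    (Ideal.Quotient.factorPow J hle).comp ((Ideal.quotientMap (J ^ n) f (pow_le I J f h n)).comp
      (AdicCompletion.evalₐ I n).toRingHom) = (Ideal.quotientMap (J ^ m) f (pow_le I J f h m)).comp
      (AdicCompletion.evalₐ I m).toRingHom := by
  apply RingHom.ext
  intro x
  obtain ⟨y, rfl⟩ := AdicCompletion.mk_surjective I A x
  simp only [RingHom.coe_comp, Function.comp_apply, AlgHom.toRingHom_eq_coe, AlgHom.coe_toRingHom,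
    AdicCompletion.evalₐ_mk, Ideal.quotientMap_mk, Ideal.Quotient.factorPow, Ideal.Quotient.factor_mk]
  rw [Ideal.Quotient.eq]
  have hy := y.2 hle
  rw [SModEq.sub_mem] at hy
  simp only [smul_eq_mul, Ideal.mul_top] at hy
  rw [← map_sub]
  have hy' : (y : ℕ → A) n - (y : ℕ → A) m ∈ I ^ m := by
    rw [← neg_sub]; exact (I ^ m).neg_mem hy
  exact pow_le I J f h m hy'

/-- The map of completions induced by a ring homomorphism sending `I` into `J`. -/
noncomputable def map (h : I ≤ J.comap f) : AdicCompletion I A →+* AdicCompletion J A' :=
  AdicCompletion.liftRingHom J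
    (fun n => (Ideal.quotientMap (J ^ n) f (pow_le I J f h n)).comp
      (AdicCompletion.evalₐ I n).toRingHom)
    (fun {_ _} hle => map_compat I J f h hle)

theorem map_algebraMap (h : I ≤ J.comap f) (a : A) :
    map I J f h (algebraMap A (AdicCompletion I A) a) =
      algebraMap A' (AdicCompletion J A') (f a) := by
  apply AdicCompletion.ext_evalₐ
  intro n
  unfold map
  rw [AdicCompletion.evalₐ_liftRingHom _ _ (fun {_ _} hle => map_compat I J f h hle)]
  simp only [AlgHom.toRingHom_eq_coe, RingHom.coe_comp, RingHom.coe_coe, Function.comp_apply,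
    AlgHom.commutes]
  rfl

end general

section loc

variable {A A' : Type*} [CommRing A] [CommRing A'] [IsLocalRing A] [IsLocalRing A']
  (f : A →+* A') [IsLocalHom f]

/-- Map of completions induced by a local homomorphism. -/
noncomputable def cplMap : AdicCompletion (maximalIdeal A) A →+*
    AdicCompletion (maximalIdeal A') A' :=
  map (maximalIdeal A) (maximalIdeal A') f (((IsLocalRing.local_hom_TFAE f).out 0 3).mp ‹IsLocalHom f›)

@[simp] theorem cplMap_algebraMap (a : A) :
    cplMap f (algebraMap A _ a) = algebraMap A' _ (f a) :=
  map_algebraMap _ _ _ _ _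

/-- Ring homomorphisms between completed local rings are determined by the dense subring. -/
theorem hom_ext [IsNoetherianRing A] [IsNoetherianRing A']
    (φ ψ : AdicCompletion (maximalIdeal A) A →+* AdicCompletion (maximalIdeal A') A')
    (h : ∀ a, φ (algebraMap A _ a) = ψ (algebraMap A _ a))
    (hloc : ∀ a ∈ maximalIdeal A, φ (algebraMap A _ a) ∈ maximalIdeal _) : φ = ψ := by
  have h1 : IsHausdorff (maximalIdeal (AdicCompletion (maximalIdeal A') A'))
      (AdicCompletion (maximalIdeal A') A') := by
    rw [AdicCompletion.maximalIdeal_eq_map]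
    have h2 : IsHausdorff (maximalIdeal A') (AdicCompletion (maximalIdeal A') A') :=
      (AdicCompletion.isAdicComplete (IsNoetherian.noetherian _)).toIsHausdorff
    refine ⟨fun x hx => h2.haus' x (fun n => ?_)⟩
    have h3 := hx n
    rw [SModEq.zero] at h3 ⊢
    rw [smul_eq_mul, Ideal.mul_top, ← Ideal.map_pow] at h3
    rw [← Submodule.restrictScalars_mem A', ← Ideal.smul_top_eq_map] at h3
    exact h3
  exact K364.CplCore.ringHom_ext (maximalIdeal A) (IsNoetherian.noetherian _)
    (maximalIdeal (AdicCompletion (maximalIdeal A') A')) φ ψ h hloc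

end loc

section act

variable {S : Type*} (G : Type*) [CommRing S] [Group G] [MulSemiringAction G S]
  (Q : Ideal S) [Q.IsPrime] (L : Type*) [CommRing L] [IsLocalRing L] [Algebra S L]
  [IsLocalization.AtPrime L Q]

variable {G}

theorem le_comap (g : MulAction.stabilizer G Q) :
    Q.primeCompl ≤ Q.primeCompl.comap (MulSemiringAction.toRingHom G S (g : G)) := by
  intro s hs hs'
  apply hs
  have h1 : (g : G) • s ∈ Q := hs'
  have h2 : (g : G) • Q = Q := g.2
  exact Ideal.smul_mem_pointwise_smul_iff.mp (h2.ge h1)

/-- An element of the decomposition group acting on the local ring. -/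
noncomputable def locMap (g : MulAction.stabilizer G Q) : L →+* L :=
  IsLocalization.map L (MulSemiringAction.toRingHom G S (g : G)) (le_comap Q g)

theorem locMap_algebraMap (g : MulAction.stabilizer G Q) (s : S) :
    locMap Q L g (algebraMap S L s) = algebraMap S L (g • s) := by
  unfold locMap
  rw [IsLocalization.map_eq]
  rfl

theorem locMap_one : locMap Q L (1 : MulAction.stabilizer G Q) = RingHom.id L := by
  apply IsLocalization.ringHom_ext Q.primeCompl
  ext s
  rw [RingHom.comp_apply, locMap_algebraMap, one_smul]
  rfl

theorem locMap_mul (g h : MulAction.stabilizer G Q) :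
    locMap Q L (g * h) = (locMap Q L g).comp (locMap Q L h) := by
  apply IsLocalization.ringHom_ext Q.primeCompl
  ext s
  rw [RingHom.comp_apply, RingHom.comp_apply, RingHom.comp_apply, locMap_algebraMap,
    locMap_algebraMap, locMap_algebraMap, mul_smul]

instance isLocalHom_locMap (g : MulAction.stabilizer G Q) : IsLocalHom (locMap Q L g) := by
  constructor
  intro x hx
  have h1 : (locMap Q L g⁻¹).comp (locMap Q L g) = RingHom.id L := by
    rw [← locMap_mul, inv_mul_cancel, locMap_one]
  have h2 := hx.map (locMap Q L g⁻¹)
  rw [← RingHom.comp_apply, h1] at h2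
  exact h2

/-- The action of the decomposition group on the completed local ring. -/
noncomputable def act (g : MulAction.stabilizer G Q) :
    AdicCompletion (maximalIdeal L) L →+* AdicCompletion (maximalIdeal L) L :=
  cplMap (locMap Q L g)

theorem act_algebraMap (g : MulAction.stabilizer G Q) (l : L) :
    act Q L g (algebraMap L _ l) = algebraMap L _ (locMap Q L g l) := cplMap_algebraMap _ _

theorem act_algebraMap' (g : MulAction.stabilizer G Q) (s : S) :
    act Q L g (algebraMap L _ (algebraMap S L s)) = algebraMap L _ (algebraMap S L (g • s)) := by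
  rw [act_algebraMap, locMap_algebraMap]

variable [IsNoetherianRing L]

theorem act_one : act Q L (1 : MulAction.stabilizer G Q) = RingHom.id _ := by
  apply hom_ext
  · intro l
    rw [act_algebraMap, locMap_one]
    rfl
  · intro l hl
    rw [act_algebraMap, locMap_one, AdicCompletion.maximalIdeal_eq_map]
    exact Ideal.mem_map_of_mem _ hl

theorem act_mul (g h : MulAction.stabilizer G Q) :
    act Q L (g * h) = (act Q L g).comp (act Q L h) := by
  apply hom_ext
  · intro l
    rw [act_algebraMap, locMap_mul, RingHom.comp_apply, RingHom.comp_apply, act_algebraMap,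
      act_algebraMap]
  · intro l hl
    rw [act_algebraMap, AdicCompletion.maximalIdeal_eq_map]
    apply Ideal.mem_map_of_mem
    exact map_nonunit (locMap Q L (g * h)) l hl

/-- The action of the decomposition group on the completed local ring. -/
noncomputable abbrev cplAction : MulSemiringAction (MulAction.stabilizer G Q)
    (AdicCompletion (maximalIdeal L) L) where
  smul g x := act Q L g x
  one_smul x := by
    change act Q L (1 : MulAction.stabilizer G Q) x = x
    rw [act_one]; rfl
  mul_smul g h x := by
    change act Q L (g * h) x = _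
    rw [act_mul]; rfl
  smul_zero g := map_zero _
  smul_add g := map_add _
  smul_one g := map_one _
  smul_mul g := map_mul _

end act

end K364.CplMap
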