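import Groth.Agent.EtAlg.K364.CplGalois
import Groth.Agent.EtAlg.K364.CplMap

/-!
The extension of completed local rings of a Galois extension of normal domains: injectivity and
invariants.
-/

set_option autoImplicit false
universe u
open IsLocalRing TensorProduct
open scoped Pointwise

namespace K364.CplCore

theorem cpl_package (R S G : Type u) [CommRing R] [CommRing S] [IsDomain R] [IsDomain S]
    [IsNoetherianRing R] [IsIntegrallyClosed R] [IsIntegrallyClosed S]
    [Algebra R S] [FaithfulSMul R S]
    [Group G] [Finite G] [MulSemiringAction G S] [SMulCommClass G R S] [IsGaloisGroup G R S]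
    (P : Ideal R) [P.IsPrime] (Q : Ideal S) [Q.IsPrime] [Q.LiesOver P]
    (A L : Type u) [CommRing A] [CommRing L] [IsLocalRing A] [IsLocalRing L]
    [Algebra R A] [IsLocalization.AtPrime A P] [Algebra S L] [IsLocalization.AtPrime L Q]
    (ρ : MulAction.stabilizer G Q →
      AdicCompletion (maximalIdeal L) L →+* AdicCompletion (maximalIdeal L) L)
    (hρ : ∀ (g : MulAction.stabilizer G Q) (s : S),
      ρ g (algebraMap L (AdicCompletion (maximalIdeal L) L) (algebraMap S L s)) =
        algebraMap L (AdicCompletion (maximalIdeal L) L) (algebraMap S L (g • s)))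
    (f : AdicCompletion (maximalIdeal A) A →+* AdicCompletion (maximalIdeal L) L)
    (hf : ∀ r : R, f (algebraMap A (AdicCompletion (maximalIdeal A) A) (algebraMap R A r)) =
        algebraMap L (AdicCompletion (maximalIdeal L) L) (algebraMap S L (algebraMap R S r))) :
    Function.Injective f ∧ (∀ g a, ρ g (f a) = f a) ∧
      (∀ x, (∀ g, ρ g x = x) → ∃ a, f a = x) := by
  let B := Localization (Algebra.algebraMapSubmonoid S P.primeCompl)
  have hM : Algebra.algebraMapSubmonoid S P.primeCompl ≤ Q.primeCompl := by
    rintro _ ⟨r, hr, rfl⟩ h1
    apply hr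
    rw [SetLike.mem_coe, Ideal.LiesOver.over (p := P) (P := Q)]
    exact h1
  let iBL : Algebra B L := IsLocalization.localizationAlgebraOfSubmonoidLe B L
    (Algebra.algebraMapSubmonoid S P.primeCompl) Q.primeCompl hM
  have t1 : IsScalarTower S B L := IsLocalization.localization_isScalarTower_of_submonoid_le B L
    (Algebra.algebraMapSubmonoid S P.primeCompl) Q.primeCompl hM
  let iAB : Algebra A B := localizationAlgebra P.primeCompl S
  let iRL : Algebra R L := ((algebraMap S L).comp (algebraMap R S)).toAlgebra
  let iAL : Algebra A L := ((algebraMap B L).comp (algebraMap A B)).toAlgebra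
  have t2 : IsScalarTower A B L := IsScalarTower.of_algebraMap_eq' rfl
  have t4 : IsScalarTower R S B := inferInstance
  have t3 : IsScalarTower R A B := by
    apply IsScalarTower.of_algebraMap_eq'
    exact (IsLocalization.map_comp (M := P.primeCompl) (S := A)
      (T := Algebra.algebraMapSubmonoid S P.primeCompl) (Q := B) _).symm
  have t5 : IsScalarTower R S L := IsScalarTower.of_algebraMap_eq' rfl
  have t6 : IsScalarTower R A L := by
    apply IsScalarTower.of_algebraMap_eq'
    rw [IsScalarTower.algebraMap_eq A B L, RingHom.comp_assoc, ← IsScalarTower.algebraMap_eq R A B,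
      IsScalarTower.algebraMap_eq R S B, ← RingHom.comp_assoc, ← IsScalarTower.algebraMap_eq S B L,
      ← IsScalarTower.algebraMap_eq R S L]
  let _ : Algebra (AdicCompletion (maximalIdeal A) A) (AdicCompletion (maximalIdeal L) L) :=
    f.toAlgebra
  have halg : ∀ r : R,
      algebraMap (AdicCompletion (maximalIdeal A) A) (AdicCompletion (maximalIdeal L) L)
        (algebraMap A (AdicCompletion (maximalIdeal A) A) (algebraMap R A r)) =
        algebraMap L (AdicCompletion (maximalIdeal L) L) (algebraMap S L (algebraMap R S r)) := hf
  have hinv0 : Algebra.IsInvariant R S G := IsGaloisGroup.isInvariant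
  have hRS : Module.Finite R S := GaloisFinite.finite_of_isGaloisGroup R S G
  have hAB : Module.Finite A B := Module.Finite.of_isLocalization R S P.primeCompl
  have hA : IsNoetherianRing A := IsLocalization.isNoetherianRing P.primeCompl A inferInstance
  let 𝔫 : Ideal B := (maximalIdeal L).comap (algebraMap B L)
  have h𝔫L : IsLocalization.AtPrime L 𝔫 := isLocalization_comap_maximalIdeal
    (Algebra.algebraMapSubmonoid S P.primeCompl) Q B L hM
  have hmA : (maximalIdeal L).comap (algebraMap A L) = maximalIdeal A := by
    apply le_antisymm (IsLocalRing.le_maximalIdeal (Ideal.IsPrime.ne_top inferInstance))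
    rw [← Ideal.map_le_iff_le_comap, ← IsLocalization.AtPrime.map_eq_maximalIdeal P A,
      Ideal.map_map, ← IsScalarTower.algebraMap_eq, IsScalarTower.algebraMap_eq R S L,
      ← Ideal.map_map, ← IsLocalization.AtPrime.map_eq_maximalIdeal Q L]
    apply Ideal.map_mono
    rw [Ideal.map_le_iff_le_comap]
    exact (Ideal.LiesOver.over (p := P) (P := Q)).le
  have h𝔫 : 𝔫.IsMaximal := by
    apply Ideal.isMaximal_of_isIntegral_of_isMaximal_comap (R := A)
    rw [Ideal.comap_comap, ← IsScalarTower.algebraMap_eq, hmA]
    infer_instance
  have hL : IsNoetherianRing L := isNoetherianRing_loc A B 𝔫 L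
  have htower : IsScalarTower A (AdicCompletion (maximalIdeal A) A)
      (AdicCompletion (maximalIdeal L) L) := by
    apply IsScalarTower.of_algebraMap_eq'
    apply IsLocalization.ringHom_ext P.primeCompl
    ext r
    simp only [RingHom.comp_apply]
    rw [halg, IsScalarTower.algebraMap_apply A L, ← IsScalarTower.algebraMap_apply R A L,
      IsScalarTower.algebraMap_apply R S L]
  have hgood : Good A B (AdicCompletion (maximalIdeal L) L) := good_cpl A B 𝔫 L
  let _ := LocAction.action P.primeCompl G S B
  have hcomm : SMulCommClass G A B := LocAction.action_smulCommClass P.primeCompl A B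
  have hinv : Algebra.IsInvariant A B G := LocAction.action_isInvariant P.primeCompl A B
  have hsmul : ∀ (g : G) (s : S), g • algebraMap S B s = algebraMap S B (g • s) := fun g s =>
    LocAction.action_smul_algebraMap P.primeCompl B g s
  have hff : Module.FaithfullyFlat L (AdicCompletion (maximalIdeal L) L) :=
    Module.FaithfullyFlat.of_flat_of_isLocalHom
  have hmem : ∀ s : S, algebraMap B (AdicCompletion (maximalIdeal L) L) (algebraMap S B s) ∈
      maximalIdeal (AdicCompletion (maximalIdeal L) L) ↔ s ∈ Q := by
    intro s
    rw [IsScalarTower.algebraMap_apply B L, ← IsScalarTower.algebraMap_apply S B L,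
      ← Ideal.mem_comap, ← IsLocalization.AtPrime.under_maximalIdeal L Q]
    have h5 : IsLocalHom (algebraMap L (AdicCompletion (maximalIdeal L) L)) := inferInstance
    have h6 : (maximalIdeal (AdicCompletion (maximalIdeal L) L)).comap
        (algebraMap L (AdicCompletion (maximalIdeal L) L)) = maximalIdeal L :=
      ((IsLocalRing.local_hom_TFAE (algebraMap L (AdicCompletion (maximalIdeal L) L))).out 0 4).mp h5
    rw [h6]
    rfl
  have hρ' : ∀ (g : MulAction.stabilizer G Q) (b : B),
      ρ g (algebraMap B (AdicCompletion (maximalIdeal L) L) b) =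
      algebraMap B (AdicCompletion (maximalIdeal L) L) ((g : G) • b) := by
    intro g
    have h1 : (ρ g).comp (algebraMap B (AdicCompletion (maximalIdeal L) L)) =
        (algebraMap B (AdicCompletion (maximalIdeal L) L)).comp
          (MulSemiringAction.toRingHom G B (g : G)) := by
      apply IsLocalization.ringHom_ext (Algebra.algebraMapSubmonoid S P.primeCompl)
      ext s
      simp only [RingHom.comp_apply, MulSemiringAction.toRingHom_apply]
      rw [hsmul, IsScalarTower.algebraMap_apply B L, ← IsScalarTower.algebraMap_apply S B L,
        hρ, IsScalarTower.algebraMap_apply B L, ← IsScalarTower.algebraMap_apply S B L]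
      rfl
    intro b
    exact RingHom.congr_fun h1 b
  have hD : ∀ g : G, g ∈ MulAction.stabilizer G Q ↔
      InDec B (AdicCompletion (maximalIdeal L) L) g := by
    intro g
    rw [MulAction.mem_stabilizer_iff]
    constructor
    · intro hg b
      obtain ⟨s, m, rfl⟩ := IsLocalization.exists_mk'_eq
        (Algebra.algebraMapSubmonoid S P.primeCompl) b
      have hu : IsUnit (algebraMap S B m) := IsLocalization.map_units B m
      have hm : g • algebraMap S B m = algebraMap S B m := by
        rw [hsmul]
        obtain ⟨_, r, hr, rfl⟩ := m
        change algebraMap S B (g • algebraMap R S r) = algebraMap S B (algebraMap R S r)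
        rw [smul_algebraMap]
      have h2 : ∀ b : B, algebraMap B (AdicCompletion (maximalIdeal L) L) b ∈
          maximalIdeal (AdicCompletion (maximalIdeal L) L) ↔
          algebraMap B (AdicCompletion (maximalIdeal L) L) (b * algebraMap S B m) ∈
          maximalIdeal (AdicCompletion (maximalIdeal L) L) := by
        intro b
        rw [map_mul, Ideal.mul_unit_mem_iff_mem _ (hu.map _)]
      rw [h2, h2 (IsLocalization.mk' B s m), IsLocalization.mk'_spec, ← hm, ← smul_mul',
        IsLocalization.mk'_spec, hsmul, hmem, hmem]
      conv_lhs => rw [← hg]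
      rw [Ideal.smul_mem_pointwise_smul_iff]
    · intro hg
      ext s
      have h3 := hg (algebraMap S B (g⁻¹ • s))
      rw [hsmul, smul_inv_smul, hmem, hmem] at h3
      rw [Ideal.mem_pointwise_smul_iff_inv_smul_mem, ← h3]
  refine ⟨?_, fun g a => ?_, fun x hx => ?_⟩
  · apply hgood.algebraMap_injective G
    have h1 : Function.Injective (algebraMap R S) := FaithfulSMul.algebraMap_injective R S
    have h2 : IsLocalization (Submonoid.map (algebraMap R S) P.primeCompl) B :=
      inferInstanceAs (IsLocalization (Algebra.algebraMapSubmonoid S P.primeCompl) B)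
    exact IsLocalization.map_injective_of_injective P.primeCompl A B h1
  · have h4 := hgood.π_σ (g : G) (ρ g) (hρ' g) (algebraMap _ (C A B) a)
    rw [AlgHom.commutes, AlgHom.commutes] at h4
    exact h4.symm
  · exact hgood.exists_of_invariant (MulAction.stabilizer G Q) hD ρ hρ' x hx

end K364.CplCore
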