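import Mathlib.FieldTheory.SeparableClosure
import Mathlib.FieldTheory.IsSepClosed
import Mathlib.FieldTheory.Galois.Basic
import Mathlib.FieldTheory.IntermediateField.Adjoin.Basic

/-!
Field extensions generated by two subextensions.
-/

set_option autoImplicit false
universe u

namespace K364.FieldGen

/-- A finite separable extension is contained in a finite Galois extension. -/
theorem exists_galois_ext (k L : Type u) [Field k] [Field L] [Algebra k L] [FiniteDimensional k L]
    [Algebra.IsSeparable k L] :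
    ∃ (K : Type u) (_ : Field K) (_ : Algebra k K) (_ : Algebra L K), IsScalarTower k L K ∧
      FiniteDimensional k K ∧ IsGalois k K := by
  let Ω := SeparableClosure L
  have : Algebra.IsSeparable k Ω := Algebra.IsSeparable.trans k L Ω
  have : IsSepClosure k Ω := ⟨inferInstance, inferInstance⟩
  have : IsGalois k Ω := inferInstance
  exact ⟨IntermediateField.normalClosure k L Ω, inferInstance, inferInstance, inferInstance,
    inferInstance, inferInstance, inferInstance⟩

theorem finite_sep_fieldRange (K X Ω : Type*) [Field K] [Field X] [Field Ω] [Algebra K X]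
    [Algebra K Ω] [FiniteDimensional K X] [Algebra.IsSeparable K X] (f : X →ₐ[K] Ω) :
    FiniteDimensional K f.fieldRange ∧ Algebra.IsSeparable K f.fieldRange := by
  let e : X ≃ₐ[K] f.fieldRange := AlgEquiv.ofInjectiveField f
  exact ⟨LinearEquiv.finiteDimensional e.toLinearEquiv, Algebra.IsSeparable.of_algHom K X e.symm.toAlgHom⟩

section

variable (K L M Ω : Type*) [Field K] [Field L] [Field M] [Field Ω]
  [Algebra K L] [Algebra K M] [Algebra K Ω] [Algebra L Ω] [Algebra M Ω]

theorem finite_sep [IsScalarTower K L Ω] [IsScalarTower K M Ω]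
    [FiniteDimensional K L] [FiniteDimensional K M] [Algebra.IsSeparable K L]
    [Algebra.IsSeparable K M]
    (hΩ : IntermediateField.adjoin K (Set.range (algebraMap L Ω) ∪ Set.range (algebraMap M Ω)) = ⊤) :
    FiniteDimensional K Ω ∧ Algebra.IsSeparable K Ω := by
  let fL : L →ₐ[K] Ω := IsScalarTower.toAlgHom K L Ω
  let fM : M →ₐ[K] Ω := IsScalarTower.toAlgHom K M Ω
  obtain ⟨h1, h2⟩ := finite_sep_fieldRange K L Ω fL
  obtain ⟨h3, h4⟩ := finite_sep_fieldRange K M Ω fM
  have h5 : FiniteDimensional K ↥(fL.fieldRange ⊔ fM.fieldRange) :=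
    IntermediateField.finiteDimensional_sup _ _
  have h6 : Algebra.IsSeparable K ↥(fL.fieldRange ⊔ fM.fieldRange) :=
    IntermediateField.isSeparable_sup _ _ _ _
  have h7 : fL.fieldRange ⊔ fM.fieldRange = ⊤ := by
    rw [eq_top_iff, ← hΩ, IntermediateField.adjoin_le_iff]
    rintro _ (⟨l, rfl⟩ | ⟨m, rfl⟩)
    · exact (le_sup_left : fL.fieldRange ≤ _) ⟨l, rfl⟩
    · exact (le_sup_right : fM.fieldRange ≤ _) ⟨m, rfl⟩
  rw [h7] at h5 h6
  exact ⟨LinearEquiv.finiteDimensional (IntermediateField.topEquiv (F := K) (E := Ω)).toLinearEquiv,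
    Algebra.IsSeparable.of_algHom K _ (IntermediateField.topEquiv (F := K) (E := Ω)).symm.toAlgHom⟩

omit [Algebra K L] [Algebra K M] in
/-- Two embeddings agreeing on generators agree. -/
theorem hom_ext {N : Type*} [Field N] [Algebra K N]
    (hΩ : IntermediateField.adjoin K (Set.range (algebraMap L Ω) ∪ Set.range (algebraMap M Ω)) = ⊤)
    (φ ψ : Ω →ₐ[K] N) (hL : ∀ l, φ (algebraMap L Ω l) = ψ (algebraMap L Ω l))
    (hM : ∀ l, φ (algebraMap M Ω l) = ψ (algebraMap M Ω l)) : φ = ψ := by
  ext x
  have hx : x ∈ IntermediateField.adjoin K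
    (Set.range (algebraMap L Ω) ∪ Set.range (algebraMap M Ω)) := by rw [hΩ]; trivial
  induction hx using IntermediateField.adjoin_induction with
  | mem x hx =>
    rcases hx with ⟨l, rfl⟩ | ⟨m, rfl⟩
    · exact hL l
    · exact hM m
  | algebraMap x => rw [φ.commutes, ψ.commutes]
  | add x y _ _ hx hy => rw [map_add, map_add, hx, hy]
  | inv x _ hx => rw [map_inv₀, map_inv₀, hx]
  | mul x y _ _ hx hy => rw [map_mul, map_mul, hx, hy]

end

end K364.FieldGen
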