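import Groth.Agent.EtAlg.K364.Inter
import Groth.Agent.EtAlg.K364.FieldGen
import Groth.Agent.Models.RMGRing
import Groth.Agent.S2651

/-!
Common setting: a local ring `A` of the integral closure of an excellent normal domain in a field
`Ω`, its intersections with subfields, and their completions inside a common completed local ring
with an action of a decomposition group.
-/

set_option autoImplicit false
universe u
open IsLocalRing
open scoped Pointwise

namespace K364.FieldSetup

section loc

variable {R X : Type u} [CommRing R] [Field X] [Algebra R X] {𝔪 : Ideal (integralClosure R X)}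
  [𝔪.IsPrime] {A : Subalgebra R X}
  (hA : ∀ z : X, z ∈ A ↔ ∃ a b : integralClosure R X, b ∉ 𝔪 ∧ z * (b : X) = (a : X))

include hA in
theorem le_of : integralClosure R X ≤ A := fun z hz => (hA z).mpr
  ⟨⟨z, hz⟩, 1, fun h1 => Ideal.IsPrime.ne_top ‹_› ((Ideal.eq_top_iff_one _).mpr h1), by simp⟩

/-- `A` as an algebra over the integral closure. -/
noncomputable abbrev algOf : Algebra (integralClosure R X) A :=
  (Subalgebra.inclusion (le_of hA)).toRingHom.toAlgebra

theorem isLocalization_of : letI := algOf hA; IsLocalization.AtPrime A 𝔪 := by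
  let _ := algOf hA
  have hcoe : ∀ c : integralClosure R X, ((algebraMap (integralClosure R X) A c : A) : X) = c :=
    fun c => rfl
  constructor
  · constructor
    · intro s
      have hs0 : ((s : integralClosure R X) : X) ≠ 0 := by
        intro h
        apply s.2
        have : (s : integralClosure R X) = 0 := Subtype.ext h
        rw [this]; exact 𝔪.zero_mem
      rw [isUnit_iff_exists_inv]
      refine ⟨⟨((s : integralClosure R X) : X)⁻¹, (hA _).mpr ⟨1, s, s.2, ?_⟩⟩, ?_⟩
      · simp [hs0]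
      · apply Subtype.ext
        change ((algebraMap (integralClosure R X) A (s : integralClosure R X) : A) : X) * _ = 1
        rw [hcoe]
        exact mul_inv_cancel₀ hs0
    · intro z
      obtain ⟨a, b, hb, hab⟩ := (hA z).mp z.2
      exact ⟨(a, ⟨b, hb⟩), Subtype.ext hab⟩
    · intro x y hxy
      refine ⟨1, ?_⟩
      have : x = y := Subtype.ext (congrArg (fun z : A => (z : X)) hxy)
      rw [this]

end loc

section comap

variable {R X Ω : Type u} (K : Type u) [CommRing R] [IsDomain R] [Field K] [Field X] [Field Ω]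
  [Algebra R K] [IsFractionRing R K] [Algebra K X] [FiniteDimensional K X] [Algebra X Ω]
  [Algebra R X] [IsScalarTower R K X] [Algebra R Ω] [IsScalarTower R X Ω]
  {𝔪 : Ideal (integralClosure R Ω)}
  [𝔪.IsPrime] {A : Subalgebra R Ω}
  (hA : ∀ z : Ω, z ∈ A ↔ ∃ a b : integralClosure R Ω, b ∉ 𝔪 ∧ z * (b : Ω) = (a : Ω))

include K hA in
theorem mem_comap_iff (z : X) : z ∈ Subalgebra.comap (IsScalarTower.toAlgHom R X Ω) A ↔
    ∃ a b : integralClosure R X, b ∉ 𝔪.comap (toB R X Ω) ∧ z * (b : X) = (a : X) := by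
  constructor
  · intro hz
    obtain ⟨a, b, hb, hab⟩ := (hA (algebraMap X Ω z)).mp hz
    obtain ⟨c, d, hd, hcd⟩ := exists_denominator R K X Ω 𝔪 z a b hb hab
    exact ⟨c, d, hd, hcd⟩
  · rintro ⟨a, b, hb, hab⟩
    refine (hA (algebraMap X Ω z)).mpr ⟨toB R X Ω a, toB R X Ω b, hb, ?_⟩
    rw [coe_toB, coe_toB, ← map_mul, hab]

end comap

/-- The properties of the completion of `A ∩ X` inside `E`. -/
def XPart (R X Ω : Type u) [CommRing R] [Field X] [Field Ω] [Algebra R X] [Algebra R Ω]
    [Algebra X Ω] [IsScalarTower R X Ω] (A : Subalgebra R Ω) [IsLocalRing A] (E D : Type u)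
    [CommRing E] (ρ : D → E →+* E)
    (fA : AdicCompletion (maximalIdeal A) A →+* E) (fix : D → Prop) : Prop :=
  ∀ (_ : IsLocalRing ↥(Subalgebra.comap (IsScalarTower.toAlgHom R X Ω) A))
    (h : AdicCompletion (maximalIdeal ↥(Subalgebra.comap (IsScalarTower.toAlgHom R X Ω) A))
      ↥(Subalgebra.comap (IsScalarTower.toAlgHom R X Ω) A) →+* AdicCompletion (maximalIdeal A) A),
    (∀ s : ↥(Subalgebra.comap (IsScalarTower.toAlgHom R X Ω) A),
      h (algebraMap _ _ s) = algebraMap A _ ⟨algebraMap X Ω s, s.2⟩) →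
    Function.Injective (fA.comp h) ∧ (∀ g, fix g → ∀ s, ρ g (fA (h s)) = fA (h s)) ∧
    (∀ e, (∀ g, fix g → ρ g e = e) → ∃ s, fA (h s) = e) ∧
    (∀ g, (∀ s : ↥(Subalgebra.comap (IsScalarTower.toAlgHom R X Ω) A),
      ρ g (fA (h (algebraMap _ _ s))) = fA (h (algebraMap _ _ s))) → fix g)

section N

variable (R K Ω N : Type u) [CommRing R] [IsDomain R]
  [Field K] [Field Ω] [Field N]
  [Algebra R K] [IsFractionRing R K] [Algebra K N] [FiniteDimensional K N]
  [Algebra R N] [IsScalarTower R K N]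
  [Algebra Ω N] [Algebra R Ω]
  [IsScalarTower R Ω N]
  (𝔫 : Ideal (integralClosure R N)) [𝔫.IsPrime]
  (𝔪 : Ideal (integralClosure R Ω)) [𝔪.IsPrime] (h𝔪 : 𝔪 = 𝔫.comap (toB R Ω N))
  (A : Subalgebra R Ω) [IsLocalRing A]
  (hA : ∀ z : Ω, z ∈ A ↔ ∃ a b : integralClosure R Ω, b ∉ 𝔪 ∧ z * (b : Ω) = (a : Ω))
  (L : Type u) [CommRing L] [IsLocalRing L] [Algebra (integralClosure R N) L]
  [IsLocalization.AtPrime L 𝔫]

include h𝔪 hA in
omit [IsDomain R] in
/-- The map `Â → E`. -/
theorem exists_fA : ∃ fA : AdicCompletion (maximalIdeal A) A →+* AdicCompletion (maximalIdeal L) L,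
    ∀ c : integralClosure R Ω, fA (algebraMap A _ ⟨(c : Ω), le_of hA c.2⟩) =
      algebraMap L _ (algebraMap _ L (toB R Ω N c)) := by
  let _ := algOf hA
  have hloc : IsLocalization.AtPrime A 𝔪 := isLocalization_of hA
  have hle : 𝔪.primeCompl ≤ 𝔫.primeCompl.comap (toB R Ω N) := by
    intro s hs hs'
    apply hs
    rw [h𝔪]
    exact hs'
  let f0 : A →+* L := IsLocalization.map L (toB R Ω N) hle
  have hf0 : ∀ c : integralClosure R Ω, f0 (algebraMap _ A c) =
      algebraMap _ L (toB R Ω N c) := fun c => IsLocalization.map_eq hle c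
  have hloc0 : IsLocalHom f0 := by
    constructor
    intro x hx
    obtain ⟨c, s, rfl⟩ := IsLocalization.exists_mk'_eq 𝔪.primeCompl x
    have h1 : f0 (IsLocalization.mk' A c s) * algebraMap _ L
        (toB R Ω N s) = algebraMap _ L (toB R Ω N c) := by
      rw [← hf0, ← hf0, ← map_mul, IsLocalization.mk'_spec]
    have h2 : IsUnit (algebraMap _ L (toB R Ω N s)) :=
      IsLocalization.map_units L (⟨toB R Ω N s, hle s.2⟩ : 𝔫.primeCompl)
    have h3 : IsUnit (algebraMap _ L (toB R Ω N c)) := by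
      rw [← h1]; exact hx.mul h2
    have h4 : c ∈ 𝔪.primeCompl := by
      intro hc
      rw [SetLike.mem_coe, h𝔪] at hc
      exact (IsLocalization.AtPrime.isUnit_to_map_iff L 𝔫 _).mp h3 hc
    rw [IsLocalization.AtPrime.isUnit_mk'_iff A 𝔪]
    exact h4
  refine ⟨CplMap.cplMap f0, fun c => ?_⟩
  have h5 := CplMap.cplMap_algebraMap f0 (algebraMap _ A c)
  rw [hf0] at h5
  exact h5

omit [IsDomain R] in
include 𝔫 in
theorem injective_B [IsNoetherianRing L] :
    Function.Injective (fun b : integralClosure R N =>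
    algebraMap L (AdicCompletion (maximalIdeal L) L) (algebraMap _ L b)) := by
  have hff : Module.FaithfullyFlat L (AdicCompletion (maximalIdeal L) L) :=
    Module.FaithfullyFlat.of_flat_of_isLocalHom
  have h1 : Function.Injective (algebraMap L (AdicCompletion (maximalIdeal L) L)) :=
      FaithfulSMul.algebraMap_injective _ _
  have h2 : Function.Injective (algebraMap (integralClosure R N) L) :=
    IsLocalization.injective _ (Ideal.primeCompl_le_nonZeroDivisors 𝔫)
  exact h1.comp h2

variable [IsNoetherianRing R] [IsIntegrallyClosed R] [IsGalois K N] [Algebra K Ω]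
  [IsScalarTower K Ω N] [IsScalarTower R K Ω]

include h𝔪 in
omit [IsScalarTower R K Ω] in
/-- The part for a subextension `X`. -/
theorem xPart [IsNoetherianRing L] (X : Type u) [Field X] [Algebra K X] [Algebra X Ω] [Algebra R X]
    [IsScalarTower K X Ω] [IsScalarTower R K X] [IsScalarTower R X Ω]
    (fA : AdicCompletion (maximalIdeal A) A →+* AdicCompletion (maximalIdeal L) L)
    (hfA : ∀ c : integralClosure R Ω, fA (algebraMap A _ ⟨(c : Ω), le_of hA c.2⟩) =
      algebraMap L _ (algebraMap _ L (toB R Ω N c))) :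
    XPart R X Ω A (AdicCompletion (maximalIdeal L) L) (MulAction.stabilizer (N ≃ₐ[K] N) 𝔫)
      (CplMap.act 𝔫 L) fA
      (fun g => ∀ x : X, (g : N ≃ₐ[K] N) (algebraMap Ω N (algebraMap X Ω x)) =
        algebraMap Ω N (algebraMap X Ω x)) := by
  intro _ h hh
  have : FiniteDimensional K Ω := FiniteDimensional.left K Ω N
  have : FiniteDimensional K X := FiniteDimensional.left K X Ω
  have hS := mem_comap_iff (X := X) K hA
  let _ := algOf hS
  have hloc : IsLocalization.AtPrime ↥(Subalgebra.comap (IsScalarTower.toAlgHom R X Ω) A)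
    (𝔪.comap (toB R X Ω)) := isLocalization_of hS
  let _ : Algebra X N := ((algebraMap Ω N).comp (algebraMap X Ω)).toAlgebra
  have t0 : IsScalarTower X Ω N := IsScalarTower.of_algebraMap_eq' rfl
  have t1 : IsScalarTower K X N := by
    apply IsScalarTower.of_algebraMap_eq'
    rw [IsScalarTower.algebraMap_eq X Ω N, RingHom.comp_assoc, ← IsScalarTower.algebraMap_eq K X Ω,
      ← IsScalarTower.algebraMap_eq K Ω N]
  have t2 : IsScalarTower R X N := by
    apply IsScalarTower.of_algebraMap_eq'
    rw [IsScalarTower.algebraMap_eq X Ω N, RingHom.comp_assoc, ← IsScalarTower.algebraMap_eq R X Ω,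
      ← IsScalarTower.algebraMap_eq R Ω N]
  have hcomp : ∀ c, toB R Ω N (toB R X Ω c) = toB R X N c := fun c => Subtype.ext rfl
  have hP : 𝔪.comap (toB R X Ω) = 𝔫.comap (toB R X N) := by
    rw [h𝔪, Ideal.comap_comap]
    rfl
  have hf : ∀ c : integralClosure R X, (fA.comp h) (algebraMap _ _ (algebraMap _
      ↥(Subalgebra.comap (IsScalarTower.toAlgHom R X Ω) A) c)) =
      algebraMap L _ (algebraMap _ L (toB R X N c)) := by
    intro c
    rw [RingHom.comp_apply, hh, ← hcomp, ← hfA]
    rfl
  obtain ⟨h1, h2, h3⟩ := package R K X N 𝔫 (𝔪.comap (toB R X Ω)) hP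
    ↥(Subalgebra.comap (IsScalarTower.toAlgHom R X Ω) A) L (fA.comp h) hf
  refine ⟨h1, fun g hg s => h2 g hg s, fun e he => h3 e he, fun g hg => ?_⟩
  have h4 : ∀ c : integralClosure R X, (g : N ≃ₐ[K] N) (algebraMap X N c) = algebraMap X N c := by
    intro c
    have h5 := hg (algebraMap _ ↥(Subalgebra.comap (IsScalarTower.toAlgHom R X Ω) A) c)
    have h6 := hf c
    rw [RingHom.comp_apply] at h6
    rw [h6, CplMap.act_algebraMap'] at h5
    have h7 := injective_B R N 𝔫 L h5
    exact congrArg Subtype.val h7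
  have i2 : IsFractionRing (integralClosure R X) X :=
    integralClosure.isFractionRing_of_finite_extension K X
  intro x
  obtain ⟨a, b, hb, rfl⟩ := IsFractionRing.div_surjective (integralClosure R X) x
  change (g : N ≃ₐ[K] N) (algebraMap X N _) = algebraMap X N _
  rw [map_div₀, map_div₀]
  exact congrArg₂ (· / ·) (h4 a) (h4 b)

end N

theorem exists_ctx_aux (R K L M Ω N : Type u) [CommRing R] [IsDomain R] [IsNoetherianRing R]
    [IsIntegrallyClosed R] [Field K] [Field L] [Field M] [Field Ω] [Field N]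
    [Algebra R K] [IsFractionRing R K]
    [Algebra K L] [Algebra K M] [Algebra K Ω] [Algebra L Ω] [Algebra M Ω]
    [IsScalarTower K L Ω] [IsScalarTower K M Ω]
    (hΩ : IntermediateField.adjoin K (Set.range (algebraMap L Ω) ∪ Set.range (algebraMap M Ω)) = ⊤)
    [Algebra R L] [Algebra R M] [Algebra R Ω] [IsScalarTower R K L] [IsScalarTower R K M]
    [IsScalarTower R K Ω] [IsScalarTower R L Ω] [IsScalarTower R M Ω]
    [Algebra K N] [FiniteDimensional K N] [Algebra R N] [IsScalarTower R K N] [Algebra Ω N]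
    [IsScalarTower R Ω N] [IsScalarTower K Ω N] [IsGalois K N]
    (𝔫 : Ideal (integralClosure R N)) [𝔫.IsPrime]
    (𝔪 : Ideal ↥(integralClosure R Ω)) [𝔪.IsPrime] (h𝔪 : 𝔪 = 𝔫.comap (toB R Ω N))
    (A : Subalgebra R Ω)
    (hA : ∀ z : Ω, z ∈ A ↔ ∃ a b : ↥(integralClosure R Ω), b ∉ 𝔪 ∧ z * (b : Ω) = (a : Ω))
    [IsLocalRing ↥A]
    (L' : Type u) [CommRing L'] [IsLocalRing L'] [Algebra (integralClosure R N) L']
    [IsLocalization.AtPrime L' 𝔫] [IsNoetherianRing L']
    (hE : IsDomain (AdicCompletion (maximalIdeal L') L')) :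
    ∃ (E : Type u) (_ : CommRing E) (_ : IsDomain E) (D : Type u) (_ : Group D) (_ : Finite D)
      (_ : MulSemiringAction D E) (_ : FaithfulSMul D E)
      (fA : AdicCompletion (maximalIdeal A) A →+* E) (fixL fixM : D → Prop),
      Function.Injective fA ∧ (∀ g, fixL g → fixM g → ∀ a, g • fA a = fA a) ∧
      XPart R L Ω A E D (fun g => MulSemiringAction.toRingHom D E g) fA fixL ∧
      XPart R M Ω A E D (fun g => MulSemiringAction.toRingHom D E g) fA fixM := by
  obtain ⟨fA, hfA⟩ := exists_fA R Ω N 𝔫 𝔪 h𝔪 A hA L'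
  have hL := xPart R K Ω N 𝔫 𝔪 h𝔪 A hA L' L fA hfA
  have hM := xPart R K Ω N 𝔫 𝔪 h𝔪 A hA L' M fA hfA
  let _ := algOf hA
  have hloc : IsLocalization.AtPrime A 𝔪 := isLocalization_of hA
  obtain ⟨h1, h2, -⟩ := package R K Ω N 𝔫 𝔪 h𝔪 A L' fA hfA
  let act := CplMap.cplAction (G := N ≃ₐ[K] N) 𝔫 L'
  have i2 : IsFractionRing (integralClosure R N) N :=
    integralClosure.isFractionRing_of_finite_extension K N
  refine ⟨AdicCompletion (maximalIdeal L') L', inferInstance, hE,
    MulAction.stabilizer (N ≃ₐ[K] N) 𝔫, inferInstance, inferInstance, act, ⟨fun {g g'} hg => ?_⟩,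
    fA, _, _, h1, ?_, hL, hM⟩
  · apply Subtype.ext
    ext x
    have h4 : ∀ c : integralClosure R N, (g : N ≃ₐ[K] N) (c : N) = (g' : N ≃ₐ[K] N) (c : N) := by
      intro c
      have h5 := hg (algebraMap L' _ (algebraMap _ L' c))
      change CplMap.act 𝔫 L' g _ = CplMap.act 𝔫 L' g' _ at h5
      rw [CplMap.act_algebraMap', CplMap.act_algebraMap'] at h5
      exact congrArg Subtype.val (injective_B R N 𝔫 L' h5)
    obtain ⟨a, b, hb, rfl⟩ := IsFractionRing.div_surjective (integralClosure R N) x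
    rw [map_div₀, map_div₀]
    exact congrArg₂ (· / ·) (h4 a) (h4 b)
  · intro g hgL hgM a
    apply h2 g _ a
    have h3 := FieldGen.hom_ext K L M Ω (N := N) hΩ
      ((g : N ≃ₐ[K] N).toAlgHom.comp (IsScalarTower.toAlgHom K Ω N))
      (IsScalarTower.toAlgHom K Ω N) (fun l => hgL l) (fun l => hgM l)
    intro x
    exact DFunLike.congr_fun h3 x

/-- The common context. -/
theorem exists_ctx (R K L M Ω : Type u) [CommRing R] [IsDomain R] [IsLocalRing R]
    [IsIntegrallyClosed R] (hR : EGA4.IsExcellent R)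
    [Field K] [Field L] [Field M] [Field Ω]
    [Algebra R K] [IsFractionRing R K]
    [Algebra K L] [Algebra K M] [Algebra K Ω] [Algebra L Ω] [Algebra M Ω]
    [IsScalarTower K L Ω] [IsScalarTower K M Ω]
    [FiniteDimensional K L] [FiniteDimensional K M] [Algebra.IsSeparable K L]
    [Algebra.IsSeparable K M]
    (hΩ : IntermediateField.adjoin K (Set.range (algebraMap L Ω) ∪ Set.range (algebraMap M Ω)) = ⊤)
    [Algebra R L] [Algebra R M] [Algebra R Ω] [IsScalarTower R K L] [IsScalarTower R K M]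
    [IsScalarTower R K Ω] [IsScalarTower R L Ω] [IsScalarTower R M Ω]
    (𝔪 : Ideal ↥(integralClosure R Ω)) [𝔪.IsMaximal] (A : Subalgebra R Ω)
    (hA : ∀ z : Ω, z ∈ A ↔ ∃ a b : ↥(integralClosure R Ω), b ∉ 𝔪 ∧ z * (b : Ω) = (a : Ω))
    [IsLocalRing ↥A] :
    ∃ (E : Type u) (_ : CommRing E) (_ : IsDomain E) (D : Type u) (_ : Group D) (_ : Finite D)
      (_ : MulSemiringAction D E) (_ : FaithfulSMul D E)
      (fA : AdicCompletion (maximalIdeal A) A →+* E) (fixL fixM : D → Prop),
      Function.Injective fA ∧ (∀ g, fixL g → fixM g → ∀ a, g • fA a = fA a) ∧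
      XPart R L Ω A E D (fun g => MulSemiringAction.toRingHom D E g) fA fixL ∧
      XPart R M Ω A E D (fun g => MulSemiringAction.toRingHom D E g) fA fixM := by
  have hN : IsNoetherianRing R := hR.1
  obtain ⟨hfin, hsep⟩ := FieldGen.finite_sep K L M Ω hΩ
  obtain ⟨N, _, _, _, hKΩN, hKN, hGal⟩ := FieldGen.exists_galois_ext K Ω
  let _ : Algebra R N := ((algebraMap Ω N).comp (algebraMap R Ω)).toAlgebra
  have t1 : IsScalarTower R Ω N := IsScalarTower.of_algebraMap_eq' rfl
  have t2 : IsScalarTower R K N := by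
    apply IsScalarTower.of_algebraMap_eq'
    rw [IsScalarTower.algebraMap_eq R Ω N, IsScalarTower.algebraMap_eq R K Ω, ← RingHom.comp_assoc,
      ← IsScalarTower.algebraMap_eq K Ω N]
  have hKN' : Algebra.IsSeparable K N := inferInstance
  -- a maximal ideal of the integral closure in `N` over `𝔪`
  obtain ⟨𝔫, h𝔫, h𝔪⟩ : ∃ 𝔫 : Ideal (integralClosure R N), 𝔫.IsMaximal ∧
      𝔪 = 𝔫.comap (toB R Ω N) := by
    let _ : Algebra (integralClosure R Ω) (integralClosure R N) := (toB R Ω N).toAlgebra
    have t3 : IsScalarTower R (integralClosure R Ω) (integralClosure R N) := by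
      apply IsScalarTower.of_algebraMap_eq
      intro r
      apply Subtype.ext
      exact (IsScalarTower.algebraMap_apply R Ω N r)
    have : Algebra.IsIntegral (integralClosure R Ω) (integralClosure R N) :=
      Algebra.IsIntegral.tower_top (R := R)
    have hinj : Function.Injective (toB R Ω N) := by
      intro a b hab
      apply Subtype.ext
      apply (algebraMap Ω N).injective
      exact congrArg Subtype.val hab
    have hker : RingHom.ker (algebraMap (integralClosure R Ω) (integralClosure R N)) ≤ 𝔪 := by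
      have : RingHom.ker (algebraMap (integralClosure R Ω) (integralClosure R N)) = ⊥ :=
        (RingHom.injective_iff_ker_eq_bot _).mp hinj
      rw [this]; exact bot_le
    obtain ⟨𝔫, h1, h2⟩ := Ideal.exists_ideal_over_maximal_of_isIntegral 𝔪 hker
    exact ⟨𝔫, h1, h2.symm⟩
  have hBfin : Module.Finite R (integralClosure R N) :=
    IsIntegralClosure.finite R K N (integralClosure R N)
  have hBN : IsNoetherianRing (integralClosure R N) := IsNoetherianRing.of_finite R _
  have hBex : EGA4.IsExcellent (integralClosure R N) := Groth.Agent.S2651.result R hR _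
  have hBic : IsIntegrallyClosed (integralClosure R N) :=
    integralClosure.isIntegrallyClosedOfFiniteExtension K
  have hLdom : IsDomain (Localization.AtPrime 𝔫) :=
    IsLocalization.isDomain_localization 𝔫.primeCompl_le_nonZeroDivisors
  have hLic : IsIntegrallyClosed (Localization.AtPrime 𝔫) :=
    isIntegrallyClosed_of_isLocalization _ 𝔫.primeCompl 𝔫.primeCompl_le_nonZeroDivisors
  have hLN : IsNoetherianRing (Localization.AtPrime 𝔫) :=
    IsLocalization.isNoetherianRing 𝔫.primeCompl _ inferInstance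
  have hE := (Groth.Agent.Models.RMGRing.cpl_of_isGRing hBex.2.2.1 𝔫).1
  exact exists_ctx_aux R K L M Ω N hΩ 𝔫 𝔪 h𝔪 A hA (Localization.AtPrime 𝔫) hE

end K364.FieldSetup
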