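import Groth.Agent.Etdl.H426.HomotAlg
import Groth.Agent.Etalg.Milnor
import Mathlib.RingTheory.Kaehler.Basic
import Mathlib.RingTheory.Etale.Kaehler
import Mathlib.RingTheory.Etale.Locus
import Mathlib.RingTheory.LocalRing.Module
import Mathlib.RingTheory.LocalRing.ResidueField.Ideal
import Mathlib.LinearAlgebra.Dimension.Constructions

/-!
Étale charts `k[x₁, …, x_d] → R[1/g]` at a maximal ideal `m` where `R` is smooth over `k`, with
prescribed values of the coordinates modulo `m`, when `Ω[(R/m)/k] = 0`.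
-/

set_option autoImplicit false
universe u
open TensorProduct

namespace K364.EtaleChart

section basis

variable {k R : Type u} [CommRing k] [CommRing R] [Algebra k R] (m : Ideal R)

/-- If `Ω[(R/m)/k] = 0`, every element of `(R/m) ⊗ Ω[R/k]` is `1 ⊗ dt` with `t ∈ m`. -/
theorem exists_D_eq [Subsingleton (Ω[(R ⧸ m)⁄k])] (v : (R ⧸ m) ⊗[R] Ω[R⁄k]) :
    ∃ t ∈ m, (1 : R ⧸ m) ⊗ₜ[R] KaehlerDifferential.D k R t = v := by
  obtain ⟨x, rfl⟩ := (KaehlerDifferential.exact_kerCotangentToTensor_mapBaseChange k R
    (R ⧸ m) Ideal.Quotient.mk_surjective v).mp (Subsingleton.elim _ _)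
  obtain ⟨⟨x, hx⟩, rfl⟩ := Ideal.toCotangent_surjective _ x
  refine ⟨x, ?_, ?_⟩
  · rwa [Ideal.Quotient.algebraMap_eq, Ideal.mk_ker] at hx
  · rw [KaehlerDifferential.kerCotangentToTensor_toCotangent]

/-- Elements of `R` with prescribed values modulo `m` whose differentials form a prescribed family
of `(R/m) ⊗ Ω[R/k]`. -/
theorem exists_lift [Subsingleton (Ω[(R ⧸ m)⁄k])] {ι : Type*} (c : ι → R)
    (v : ι → (R ⧸ m) ⊗[R] Ω[R⁄k]) :
    ∃ a : ι → R, (∀ i, a i - c i ∈ m) ∧
      ∀ i, (1 : R ⧸ m) ⊗ₜ[R] KaehlerDifferential.D k R (a i) = v i := by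
  choose t ht hv using fun i => exists_D_eq m (v i - (1 : R ⧸ m) ⊗ₜ[R] KaehlerDifferential.D k R (c i))
  refine ⟨fun i => t i + c i, fun i => ?_, fun i => ?_⟩
  · simpa using ht i
  · rw [map_add, tmul_add, hv i, sub_add_cancel]

end basis

section chart

variable {k R : Type u} [CommRing k] [CommRing R] [Algebra k R] (m : Ideal R) [m.IsMaximal]

theorem isBaseChange_map : IsBaseChange (Localization.AtPrime m)
    (KaehlerDifferential.map k k R (Localization.AtPrime m)) :=
  (isLocalizedModule_iff_isBaseChange m.primeCompl (Localization.AtPrime m) _).mp inferInstance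

theorem free_localization [Algebra.FiniteType k R] [Algebra.IsSmoothAt k m] :
    Module.Finite (Localization.AtPrime m) (Ω[(Localization.AtPrime m)⁄k]) ∧
      Module.Free (Localization.AtPrime m) (Ω[(Localization.AtPrime m)⁄k]) := by
  have h1 : Module.Finite (Localization.AtPrime m) (Ω[(Localization.AtPrime m)⁄k]) :=
    Module.Finite.equiv (isBaseChange_map (k := k) m).equiv
  have h2 : Module.Projective (Localization.AtPrime m) (Ω[(Localization.AtPrime m)⁄k]) :=
    inferInstance
  exact ⟨h1, Module.free_of_flat_of_isLocalRing⟩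

/-- The rank of `Ω` of the local ring. -/
theorem finrank_localization [Algebra.FiniteType k R]
    [Algebra.IsSmoothAt k m] :
    Module.finrank (Localization.AtPrime m) (Ω[(Localization.AtPrime m)⁄k]) =
      Module.finrank (R ⧸ m) ((R ⧸ m) ⊗[R] Ω[R⁄k]) := by
  obtain ⟨h1, h2⟩ := free_localization (k := k) m
  have hb := isBaseChange_map (k := k) m
  let _ : Field (R ⧸ m) := Ideal.Quotient.field m
  rw [← Module.finrank_baseChange (R := m.ResidueField) (S := Localization.AtPrime m),
    ← Module.finrank_baseChange (R := m.ResidueField) (S := R ⧸ m)]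
  refine LinearEquiv.finrank_eq ?_
  exact (AlgebraTensorModule.congr (LinearEquiv.refl m.ResidueField m.ResidueField)
    hb.equiv.symm) ≪≫ₗ
    (AlgebraTensorModule.cancelBaseChange R (Localization.AtPrime m) m.ResidueField
      m.ResidueField (Ω[R⁄k])) ≪≫ₗ
    (AlgebraTensorModule.cancelBaseChange R (R ⧸ m) m.ResidueField
      m.ResidueField (Ω[R⁄k])).symm

variable {ι : Type u} [Finite ι]

theorem surjective_fm [Algebra.FiniteType k R] (a : ι → R)
    (ha : Submodule.span (R ⧸ m) (Set.range fun i =>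
      (1 : R ⧸ m) ⊗ₜ[R] KaehlerDifferential.D k R (a i)) = ⊤) :
    Function.Surjective (Groth.Agent.Etdl.H426.HomotAlg.fm k
      (fun i : ι => algebraMap R (Localization.AtPrime m) (a i))) := by
  classical
  have hb := isBaseChange_map (k := k) m
  have h1 : Module.Finite (Localization.AtPrime m) (Ω[(Localization.AtPrime m)⁄k]) :=
    Module.Finite.equiv hb.equiv
  set E := Localization.AtPrime m with hE
  set W := LinearMap.range (Groth.Agent.Etdl.H426.HomotAlg.fm k
      (fun i : ι => algebraMap R E (a i))) with hW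
  have hDW : ∀ i, KaehlerDifferential.D k E (algebraMap R E (a i)) ∈ W := by
    intro i
    exact ⟨Finsupp.single i 1, by simp [Groth.Agent.Etdl.H426.HomotAlg.fm]⟩
  -- images of elements of `m • Ω`
  have hm : ∀ ω ∈ m • (⊤ : Submodule R (Ω[R⁄k])), KaehlerDifferential.map k k R E ω ∈
      IsLocalRing.maximalIdeal E • (⊤ : Submodule E (Ω[E⁄k])) := by
    intro ω hω
    refine Submodule.smul_induction_on hω ?_ ?_
    · intro r hr x _
      rw [map_smul, ← algebraMap_smul E r]
      refine Submodule.smul_mem_smul ?_ trivial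
      exact (IsLocalization.AtPrime.to_map_mem_maximal_iff E m r).mpr hr
    · intro x y hx hy
      rw [map_add]
      exact Submodule.add_mem _ hx hy
  have key : ∀ ω : Ω[R⁄k], KaehlerDifferential.map k k R E ω ∈
      W ⊔ IsLocalRing.maximalIdeal E • (⊤ : Submodule E (Ω[E⁄k])) := by
    intro ω
    have h2 : (1 : R ⧸ m) ⊗ₜ[R] ω ∈ Submodule.span (R ⧸ m) (Set.range fun i =>
      (1 : R ⧸ m) ⊗ₜ[R] KaehlerDifferential.D k R (a i)) := by rw [ha]; trivial
    rw [Finsupp.mem_span_range_iff_exists_finsupp] at h2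
    obtain ⟨c, hc⟩ := h2
    choose r hr using fun i => Ideal.Quotient.mk_surjective (c i)
    have h3 : (1 : R ⧸ m) ⊗ₜ[R] (ω - ∑ i ∈ c.support, r i • KaehlerDifferential.D k R (a i)) = 0 := by
      rw [tmul_sub, ← hc, sub_eq_zero, Finsupp.sum, tmul_sum]
      refine Finset.sum_congr rfl fun i _ => ?_
      rw [TensorProduct.smul_tmul', ← TensorProduct.smul_tmul, ← hr i, smul_eq_mul, mul_one,
        Algebra.smul_def, mul_one]
      rfl
    rw [Groth.Agent.Etalg.Milnor.one_tmul_eq_zero_iff Ideal.Quotient.mk_surjective,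
      Ideal.Quotient.algebraMap_eq, Ideal.mk_ker] at h3
    have h4 := hm _ h3
    rw [map_sub, map_sum] at h4
    have h5 : ∑ i ∈ c.support, KaehlerDifferential.map k k R E
        (r i • KaehlerDifferential.D k R (a i)) ∈ W := by
      refine Submodule.sum_mem _ fun i _ => ?_
      rw [map_smul, KaehlerDifferential.map_D, ← algebraMap_smul E (r i)]
      exact Submodule.smul_mem _ _ (hDW i)
    rw [← sub_add_cancel (KaehlerDifferential.map k k R E ω)
      (∑ i ∈ c.support, KaehlerDifferential.map k k R E (r i • KaehlerDifferential.D k R (a i)))]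
    exact Submodule.add_mem _ (Submodule.mem_sup_right h4) (Submodule.mem_sup_left h5)
  have hle : (⊤ : Submodule E (Ω[E⁄k])) ≤
      W ⊔ IsLocalRing.maximalIdeal E • (⊤ : Submodule E (Ω[E⁄k])) := by
    rintro y -
    obtain ⟨x, rfl⟩ := hb.equiv.surjective y
    induction x using TensorProduct.induction_on with
    | zero => rw [map_zero]; exact Submodule.zero_mem _
    | tmul e ω =>
      rw [hb.equiv_tmul]
      exact Submodule.smul_mem _ _ (key ω)
    | add x y hx hy => rw [map_add]; exact Submodule.add_mem _ hx hy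
  have htop : W = ⊤ := eq_top_iff.2 (Submodule.le_of_le_smul_of_le_jacobson_bot
    (Module.finite_def.1 h1) (IsLocalRing.maximalIdeal_le_jacobson _) hle)
  exact LinearMap.range_eq_top.1 htop

/-- The coordinates `a` are étale at `m` if their differentials span `(R/m) ⊗ Ω` and their number
is the rank. -/
theorem etAt [Algebra.FinitePresentation k R] [hs : Algebra.IsSmoothAt k m] (a : ι → R)
    (hcard : Nat.card ι = Module.finrank (R ⧸ m) ((R ⧸ m) ⊗[R] Ω[R⁄k]))
    (ha : Submodule.span (R ⧸ m) (Set.range fun i =>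
      (1 : R ⧸ m) ⊗ₜ[R] KaehlerDifferential.D k R (a i)) = ⊤) :
    Groth.Agent.Etdl.H426.HomotAlg.EtAt k a m := by
  rw [Groth.Agent.Etdl.H426.HomotAlg.etAt_iff k a m hs]
  have hsurj := surjective_fm (k := k) m a ha
  obtain ⟨h1, h2⟩ := free_localization (k := k) m
  have h3 := finrank_localization (k := k) m
  let e : Ω[(Localization.AtPrime m)⁄k] ≃ₗ[Localization.AtPrime m]
      (ι →₀ Localization.AtPrime m) := LinearEquiv.ofFinrankEq _ _ (by
    have := Fintype.ofFinite ι
    rw [h3, ← hcard, Module.finrank_finsupp_self, Nat.card_eq_fintype_card])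
  have h4 : Function.Injective (e.toLinearMap ∘ₗ Groth.Agent.Etdl.H426.HomotAlg.fm k
      (fun i : ι => algebraMap R (Localization.AtPrime m) (a i))) :=
    OrzechProperty.injective_of_surjective_endomorphism _ (e.surjective.comp hsurj)
  exact ⟨fun x y hxy => h4 (congrArg e hxy), hsurj⟩

end chart

end K364.EtaleChart
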