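import Groth.Agent.EtAlg.K364.EtaleChart
import Mathlib.RingTheory.RingHom.Etale
import Mathlib.RingTheory.Jacobson.Ring
import Mathlib.RingTheory.Unramified.Field
import Mathlib.RingTheory.Unramified.LocalRing
import Mathlib.FieldTheory.Perfect
import Mathlib.FieldTheory.Finite.Basic
import Mathlib.RingTheory.Artinian.Ring

/-!
Étale charts inducing an isomorphism of residue fields, residue field of the base finite.
-/

set_option autoImplicit false
universe u
open TensorProduct

namespace K364.EtaleChart2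

variable {k R : Type u} [CommRing k] [CommRing R] [Algebra k R]

/-- Chart at a maximal ideal with simple separable (`Ω = 0`) residue extension. -/
theorem exists_chart [Algebra.FinitePresentation k R] (m : Ideal R) [m.IsMaximal]
    [Algebra.IsSmoothAt k m] [Subsingleton (Ω[(R ⧸ m)⁄k])] (d : ℕ) (hd : 0 < d)
    (hdim : Module.finrank (R ⧸ m) ((R ⧸ m) ⊗[R] Ω[R⁄k]) = d)
    (θ : R) (hθ : ∀ r : R, ∃ p : Polynomial k, r - Polynomial.aeval θ p ∈ m) :
    ∃ g : R, g ∉ m ∧ ∃ φ : MvPolynomial (Fin d) k →ₐ[k] Localization.Away g,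
      φ.toRingHom.Etale ∧
      Function.Surjective
        ((Ideal.Quotient.mk (m.map (algebraMap R (Localization.Away g)))).comp φ.toRingHom) := by
  classical
  let i₀ : Fin d := ⟨0, hd⟩
  -- a basis of `(R/m) ⊗ Ω`
  have hspan : ∃ v : Fin d → (R ⧸ m) ⊗[R] Ω[R⁄k], Submodule.span (R ⧸ m) (Set.range v) = ⊤ := by
    let _ : Field (R ⧸ m) := Ideal.Quotient.field m
    have hfin : Module.Finite (R ⧸ m) ((R ⧸ m) ⊗[R] Ω[R⁄k]) := inferInstance
    exact ⟨Module.finBasisOfFinrankEq (R ⧸ m) ((R ⧸ m) ⊗[R] Ω[R⁄k]) hdim,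
      (Module.finBasisOfFinrankEq (R ⧸ m) ((R ⧸ m) ⊗[R] Ω[R⁄k]) hdim).span_eq⟩
  obtain ⟨v, hv⟩ := hspan
  obtain ⟨a, ha1, ha2⟩ := EtaleChart.exists_lift m (fun i : Fin d => if i = i₀ then θ else 0) v
  -- the chart is étale at `m`
  have het : Groth.Agent.Etdl.H426.HomotAlg.EtAt k (fun i : ULift.{u} (Fin d) => a i.down) m := by
    apply EtaleChart.etAt
    · rw [hdim]
      simp
    · have h1 : (Set.range fun i : ULift.{u} (Fin d) =>
          (1 : R ⧸ m) ⊗ₜ[R] KaehlerDifferential.D k R (a i.down)) = Set.range v := by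
        ext x
        constructor
        · rintro ⟨i, rfl⟩
          exact ⟨i.down, (ha2 _).symm⟩
        · rintro ⟨i, rfl⟩
          exact ⟨⟨i⟩, ha2 _⟩
      rw [h1, hv]
  let P := MvPolynomial (ULift.{u} (Fin d)) k
  let aev : P →ₐ[k] R := MvPolynomial.aeval (fun i : ULift.{u} (Fin d) => a i.down)
  let _ : Algebra P R := aev.toRingHom.toAlgebra
  have hst : IsScalarTower k P R := IsScalarTower.of_algebraMap_eq fun x => (aev.commutes x).symm
  have hfp : Algebra.FinitePresentation P R :=
    Algebra.FinitePresentation.of_restrict_scalars_finitePresentation k P R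
  have het' : Algebra.IsEtaleAt P m := het
  obtain ⟨g, hg, hgE⟩ := Algebra.exists_etale_of_isEtaleAt (R := P) m
  refine ⟨g, hg, ?_⟩
  let e : MvPolynomial (Fin d) k ≃ₐ[k] P := MvPolynomial.renameEquiv k Equiv.ulift.symm
  let φ : MvPolynomial (Fin d) k →ₐ[k] Localization.Away g :=
    ((IsScalarTower.toAlgHom k R (Localization.Away g)).comp aev).comp e.toAlgHom
  have hφX : ∀ p : Polynomial k, φ (Polynomial.aeval (MvPolynomial.X i₀) p) =
      algebraMap R (Localization.Away g) (Polynomial.aeval (a i₀) p) := by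
    intro p
    have h1 : (aev.comp e.toAlgHom) (MvPolynomial.X i₀) = a i₀ := by
      change (MvPolynomial.aeval fun i : ULift.{u} (Fin d) => a i.down)
        ((MvPolynomial.renameEquiv k Equiv.ulift.symm) (MvPolynomial.X i₀)) = a i₀
      rw [MvPolynomial.renameEquiv_apply, MvPolynomial.rename_X, MvPolynomial.aeval_X]
      rfl
    change algebraMap R (Localization.Away g)
      ((aev.comp e.toAlgHom) (Polynomial.aeval (MvPolynomial.X i₀) p)) = _
    rw [← Polynomial.aeval_algHom_apply, h1]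
  refine ⟨φ, ?_, ?_⟩
  · have h1 : φ.toRingHom = (algebraMap P (Localization.Away g)).comp (e : _ →+* _) := rfl
    rw [h1]
    exact RingHom.Etale.stableUnderComposition _ _ (RingHom.Etale.of_bijective e.bijective)
      (RingHom.etale_algebraMap.mpr hgE)
  · -- surjectivity modulo `m`
    have h0 : a i₀ - θ ∈ m := by
      have := ha1 i₀
      simpa using this
    have h1 : ∀ p : Polynomial k, Polynomial.aeval (a i₀) p - Polynomial.aeval θ p ∈ m := by
      intro p
      rw [← Ideal.Quotient.eq] at h0 ⊢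
      rw [← Ideal.Quotient.mkₐ_eq_mk k, ← Polynomial.aeval_algHom_apply,
        ← Polynomial.aeval_algHom_apply, Ideal.Quotient.mkₐ_eq_mk, h0]
    have h2 : ∀ r : R, ∃ p : Polynomial k, r - Polynomial.aeval (a i₀) p ∈ m := by
      intro r
      obtain ⟨p, hp⟩ := hθ r
      refine ⟨p, ?_⟩
      have := m.sub_mem hp (h1 p)
      simpa using this
    -- an inverse of `g` modulo `m`
    obtain ⟨h, hh⟩ : ∃ h : R, g * h - 1 ∈ m := by
      let _ : Field (R ⧸ m) := Ideal.Quotient.field m
      have hg0 : Ideal.Quotient.mk m g ≠ 0 := by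
        rwa [Ne, Ideal.Quotient.eq_zero_iff_mem]
      obtain ⟨h, hh⟩ := Ideal.Quotient.mk_surjective ((Ideal.Quotient.mk m g)⁻¹)
      refine ⟨h, ?_⟩
      rw [← Ideal.Quotient.eq, map_mul, hh, map_one, mul_inv_cancel₀ hg0]
    set J := m.map (algebraMap R (Localization.Away g)) with hJ
    have hπ : ∀ x y : R, x - y ∈ m → Ideal.Quotient.mk J (algebraMap R _ x) =
        Ideal.Quotient.mk J (algebraMap R _ y) := by
      intro x y hxy
      rw [Ideal.Quotient.eq, ← map_sub]
      exact Ideal.mem_map_of_mem _ hxy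
    intro y
    obtain ⟨y, rfl⟩ := Ideal.Quotient.mk_surjective y
    obtain ⟨n, r, hr⟩ := IsLocalization.Away.surj g y
    obtain ⟨p, hp⟩ := h2 (r * h ^ n)
    refine ⟨Polynomial.aeval (MvPolynomial.X i₀) p, ?_⟩
    change Ideal.Quotient.mk J (φ (Polynomial.aeval (MvPolynomial.X i₀) p)) = _
    have h3 : g ^ n * h ^ n - 1 ∈ m := by
      rw [← Ideal.Quotient.eq, ← mul_pow, map_pow, (Ideal.Quotient.eq).mpr hh, map_one, one_pow]
    rw [hφX, ← hπ _ _ hp, map_mul, ← hr, mul_assoc, ← map_pow, ← map_mul, map_mul, hπ _ _ h3,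
      map_one, map_one, mul_one]

/-- The residue field of a maximal ideal of an algebra of finite type over a local ring with finite
residue field, over the maximal ideal. -/
theorem finite_quotient [IsLocalRing k] [Finite (IsLocalRing.ResidueField k)]
    [Algebra.FiniteType k R] (m : Ideal R) [m.IsMaximal]
    (hm : m.comap (algebraMap k R) = IsLocalRing.maximalIdeal k) :
    Finite (R ⧸ m) ∧ Subsingleton (Ω[(R ⧸ m)⁄k]) := by
  let _ : Field (R ⧸ m) := Ideal.Quotient.field m
  have hle : IsLocalRing.maximalIdeal k ≤ RingHom.ker (algebraMap k (R ⧸ m)) := by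
    intro x hx
    rw [← hm, Ideal.mem_comap] at hx
    rw [RingHom.mem_ker, IsScalarTower.algebraMap_apply k R (R ⧸ m), Ideal.Quotient.algebraMap_eq,
      Ideal.Quotient.eq_zero_iff_mem]
    exact hx
  let _ : Algebra (IsLocalRing.ResidueField k) (R ⧸ m) :=
    (Ideal.Quotient.lift (IsLocalRing.maximalIdeal k) (algebraMap k (R ⧸ m)) hle).toAlgebra
  have : IsScalarTower k (IsLocalRing.ResidueField k) (R ⧸ m) :=
    IsScalarTower.of_algebraMap_eq fun _ => rfl
  have hft : Algebra.FiniteType (IsLocalRing.ResidueField k) (R ⧸ m) :=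
    Algebra.FiniteType.of_restrictScalars_finiteType k _ _
  have hfin : Module.Finite (IsLocalRing.ResidueField k) (R ⧸ m) :=
    finite_of_finite_type_of_isJacobsonRing _ _
  refine ⟨Module.finite_of_finite (IsLocalRing.ResidueField k), ?_⟩
  have h1 : Algebra.FormallyUnramified (IsLocalRing.ResidueField k) (R ⧸ m) :=
    Algebra.FormallyUnramified.of_isSeparable _ _
  have h2 : Algebra.FormallyUnramified k (R ⧸ m) :=
    Algebra.FormallyUnramified.comp k (IsLocalRing.ResidueField k) (R ⧸ m)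
  infer_instance

theorem main [IsLocalRing k] [Finite (IsLocalRing.ResidueField k)]
    [Algebra.FinitePresentation k R] (m : Ideal R) [m.IsMaximal]
    (hm : m.comap (algebraMap k R) = IsLocalRing.maximalIdeal k)
    [Algebra.IsSmoothAt k m] (d : ℕ) (hd : 0 < d)
    (hdim : Module.finrank (R ⧸ m) ((R ⧸ m) ⊗[R] Ω[R⁄k]) = d) :
    ∃ g : R, g ∉ m ∧ ∃ φ : MvPolynomial (Fin d) k →ₐ[k] Localization.Away g,
      φ.toRingHom.Etale ∧
      Function.Surjective
        ((Ideal.Quotient.mk (m.map (algebraMap R (Localization.Away g)))).comp φ.toRingHom) := by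
  obtain ⟨h1, h2⟩ := finite_quotient (k := k) m hm
  let _ : Field (R ⧸ m) := Ideal.Quotient.field m
  obtain ⟨u, hu⟩ := IsCyclic.exists_generator (α := (R ⧸ m)ˣ)
  obtain ⟨θ, hθ⟩ := Ideal.Quotient.mk_surjective (I := m) (u : R ⧸ m)
  refine exists_chart m d hd hdim θ fun r => ?_
  by_cases hr : Ideal.Quotient.mk m r = 0
  · exact ⟨0, by rw [map_zero, sub_zero]; rwa [Ideal.Quotient.eq_zero_iff_mem] at hr⟩
  · have h3 := hu (Units.mk0 _ hr)
    rw [← mem_powers_iff_mem_zpowers] at h3
    obtain ⟨n, hn⟩ := h3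
    refine ⟨Polynomial.X ^ n, ?_⟩
    rw [← Ideal.Quotient.eq, map_pow, Polynomial.aeval_X, map_pow, hθ, ← Units.val_pow_eq_pow_val]
    exact (congrArg Units.val hn).symm

end K364.EtaleChart2
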