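import Groth.Agent.EtAlg.K364.CplPackage
import Mathlib.RingTheory.IntegralClosure.IntegrallyClosed
import Mathlib.RingTheory.DedekindDomain.IntegralClosure
import Mathlib.FieldTheory.Galois.IsGaloisGroup

/-!
Integral closures of a normal domain `R` in subextensions of a Galois extension `N / K`, and their
completed local rings.
-/

set_option autoImplicit false
universe u
open IsLocalRing
open scoped Pointwise

namespace K364.FieldSetup

section toB

variable (R X N : Type*) [CommRing R] [Field X] [Field N] [Algebra R X] [Algebra R N] [Algebra X N]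
  [IsScalarTower R X N]

/-- The inclusion of integral closures. -/
def toB : integralClosure R X →+* integralClosure R N where
  toFun c := ⟨algebraMap X N c, c.2.map (IsScalarTower.toAlgHom R X N)⟩
  map_one' := Subtype.ext (map_one _)
  map_mul' _ _ := Subtype.ext (map_mul _ _ _)
  map_zero' := Subtype.ext (map_zero _)
  map_add' _ _ := Subtype.ext (map_add _ _ _)

@[simp] theorem coe_toB (c : integralClosure R X) : ((toB R X N c : integralClosure R N) : N) =
    algebraMap X N c := rfl

end toB

section pkg

variable (R K X N : Type u) [CommRing R] [IsDomain R] [IsNoetherianRing R] [IsIntegrallyClosed R]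
  [Field K] [Field X] [Field N]
  [Algebra R K] [IsFractionRing R K] [Algebra K N] [FiniteDimensional K N] [IsGalois K N]
  [Algebra R N] [IsScalarTower R K N]
  [Algebra K X] [Algebra X N] [IsScalarTower K X N] [Algebra R X] [IsScalarTower R K X]
  [IsScalarTower R X N]

theorem package (𝔫 : Ideal (integralClosure R N)) [𝔫.IsPrime] (P : Ideal (integralClosure R X))
    [P.IsPrime] (hP : P = 𝔫.comap (toB R X N)) (A L : Type u) [CommRing A] [CommRing L]
    [IsLocalRing A] [IsLocalRing L] [Algebra (integralClosure R X) A]
    [IsLocalization.AtPrime A P] [Algebra (integralClosure R N) L] [IsLocalization.AtPrime L 𝔫]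
    (f : AdicCompletion (maximalIdeal A) A →+* AdicCompletion (maximalIdeal L) L)
    (hf : ∀ c : integralClosure R X, f (algebraMap A _ (algebraMap _ A c)) =
      algebraMap L _ (algebraMap _ L (toB R X N c))) :
    Function.Injective f ∧
    (∀ g : MulAction.stabilizer (N ≃ₐ[K] N) 𝔫,
      (∀ x : X, (g : N ≃ₐ[K] N) (algebraMap X N x) = algebraMap X N x) →
      ∀ a, CplMap.act 𝔫 L g (f a) = f a) ∧
    (∀ e, (∀ g : MulAction.stabilizer (N ≃ₐ[K] N) 𝔫,
      (∀ x : X, (g : N ≃ₐ[K] N) (algebraMap X N x) = algebraMap X N x) →
      CplMap.act 𝔫 L g e = e) → ∃ a, f a = e) := by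
  have : FiniteDimensional K X := FiniteDimensional.left K X N
  have : Algebra.IsSeparable K X := Algebra.isSeparable_tower_bot_of_isSeparable K X N
  have : FiniteDimensional X N := FiniteDimensional.right K X N
  have : IsGalois X N := IsGalois.tower_top_of_isGalois K X N
  have : IsIntegrallyClosed (integralClosure R X) :=
    integralClosure.isIntegrallyClosedOfFiniteExtension K
  have : IsIntegrallyClosed (integralClosure R N) :=
    integralClosure.isIntegrallyClosedOfFiniteExtension K
  have : IsFractionRing (integralClosure R X) X :=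
    integralClosure.isFractionRing_of_finite_extension K X
  have : IsFractionRing (integralClosure R N) N :=
    integralClosure.isFractionRing_of_finite_extension K N
  have : IsNoetherianRing (integralClosure R X) :=
    IsIntegralClosure.isNoetherianRing R K X (integralClosure R X)
  let _ : Algebra (integralClosure R X) (integralClosure R N) := (toB R X N).toAlgebra
  have t1 : IsScalarTower (integralClosure R X) X N := inferInstance
  have t2 : IsScalarTower (integralClosure R X) (integralClosure R N) N :=
    IsScalarTower.of_algebraMap_eq' rfl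
  have t3 : IsScalarTower R (integralClosure R X) (integralClosure R N) := by
    apply IsScalarTower.of_algebraMap_eq
    intro r
    apply Subtype.ext
    exact (IsScalarTower.algebraMap_apply R X N r)
  have : Algebra.IsIntegral (integralClosure R X) (integralClosure R N) :=
    Algebra.IsIntegral.tower_top (R := R)
  have hG : IsGaloisGroup (N ≃ₐ[X] N) (integralClosure R X) (integralClosure R N) :=
    IsGaloisGroup.of_isFractionRing (N ≃ₐ[X] N) (integralClosure R X) (integralClosure R N) X N
  have : SMulCommClass (N ≃ₐ[X] N) (integralClosure R X) (integralClosure R N) :=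
    IsGaloisGroup.commutes
  have : FaithfulSMul (integralClosure R X) (integralClosure R N) := by
    rw [faithfulSMul_iff_algebraMap_injective]
    intro a b hab
    apply Subtype.ext
    apply (algebraMap X N).injective
    exact congrArg Subtype.val hab
  have hlies : 𝔫.LiesOver P := ⟨hP⟩
  have hres : ∀ g : N ≃ₐ[X] N, g ∈ MulAction.stabilizer (N ≃ₐ[X] N) 𝔫 →
      g.restrictScalars K ∈ MulAction.stabilizer (N ≃ₐ[K] N) 𝔫 := by
    intro g hg
    rw [MulAction.mem_stabilizer_iff] at hg ⊢
    refine Eq.trans ?_ hg
    ext x
    rw [Ideal.mem_pointwise_smul_iff_inv_smul_mem, Ideal.mem_pointwise_smul_iff_inv_smul_mem]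
    exact Iff.rfl
  have hres' : ∀ g : N ≃ₐ[K] N, g ∈ MulAction.stabilizer (N ≃ₐ[K] N) 𝔫 →
      ∀ hg : (∀ x : X, g (algebraMap X N x) = algebraMap X N x),
      (AlgEquiv.ofRingEquiv (f := g.toRingEquiv) hg : N ≃ₐ[X] N) ∈
        MulAction.stabilizer (N ≃ₐ[X] N) 𝔫 := by
    intro g hg hx
    rw [MulAction.mem_stabilizer_iff] at hg ⊢
    refine Eq.trans ?_ hg
    ext x
    rw [Ideal.mem_pointwise_smul_iff_inv_smul_mem, Ideal.mem_pointwise_smul_iff_inv_smul_mem]
    exact Iff.rfl
  obtain ⟨h1, h2, h3⟩ := CplCore.cpl_package (integralClosure R X) (integralClosure R N)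
    (N ≃ₐ[X] N) P 𝔫 A L (fun g => CplMap.act 𝔫 L ⟨(g : N ≃ₐ[X] N).restrictScalars K, hres _ g.2⟩)
    (fun g s => by
      rw [CplMap.act_algebraMap']
      rfl) f hf
  refine ⟨h1, fun g hg a => ?_, fun e he => ?_⟩
  · exact h2 ⟨AlgEquiv.ofRingEquiv (f := (g : N ≃ₐ[K] N).toRingEquiv) hg, hres' _ g.2 hg⟩ a
  · apply h3
    intro g
    exact he ⟨(g : N ≃ₐ[X] N).restrictScalars K, hres _ g.2⟩ (fun x => (g : N ≃ₐ[X] N).commutes x)

end pkg

end K364.FieldSetup
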