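import Groth.Agent.EtAlg.K364.CplCore
import Mathlib.RingTheory.IsGaloisGroup.Basic
import Mathlib.FieldTheory.Galois.IsGaloisGroup
import Mathlib.FieldTheory.IntermediateField.Basic
import Mathlib.Algebra.Field.Subfield.Basic
import Mathlib.RingTheory.AdicCompletion.LocalRing
import Mathlib.RingTheory.AdicCompletion.AsTensorProduct
import Mathlib.RingTheory.Flat.FaithfullyFlat.Algebra
import Mathlib.FieldTheory.Separable
import Mathlib.RingTheory.LocalRing.ResidueField.Ideal

/-!
Elements of a domain fixed by a subgroup are quotients of elements of a generating subring.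
-/

set_option autoImplicit false
universe u
open IsLocalRing

namespace K364.GalQuot

theorem exists_quot (E D : Type u) [CommRing E] [IsDomain E] [Group D] [Finite D]
    [MulSemiringAction D E] [FaithfulSMul D E] (s : Set E)
    (hs : ∀ e : E, (∀ g : D, g • e = e) → e ∈ s) (x : E)
    (hx : ∀ g : D, (∀ e ∈ s, g • e = e) → g • x = x) :
    ∃ a b : E, a ∈ Subring.closure s ∧ b ∈ Subring.closure s ∧ b ≠ 0 ∧ x * b = a := by
  let A₀ : Subalgebra ℤ E := FixedPoints.subalgebra ℤ E D
  have hG : IsGaloisGroup D A₀ E :=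
    { faithful := inferInstance
      commutes := ⟨fun g a e => by
        rw [Algebra.smul_def, Algebra.smul_def, smul_mul']
        congr 1
        exact a.2 g⟩
      isInvariant := ⟨fun e he => ⟨⟨e, he⟩, rfl⟩⟩ }
  have hcomm : SMulCommClass D A₀ E := hG.commutes
  have hinv : Algebra.IsInvariant A₀ E D := hG.isInvariant
  let F₀ := FractionRing A₀
  let 𝓕 := FractionRing E
  have hinj : FaithfulSMul A₀ E := inferInstance
  let _ : Algebra F₀ 𝓕 := FractionRing.liftAlgebra A₀ 𝓕
  have : IsScalarTower A₀ F₀ 𝓕 := FractionRing.isScalarTower_liftAlgebra A₀ 𝓕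
  let _ := IsFractionRing.mulSemiringAction D E 𝓕
  have hG' : IsGaloisGroup D F₀ 𝓕 := IsGaloisGroup.to_isFractionRing D A₀ E F₀ 𝓕
  have hsmul : ∀ (g : D) (e : E), g • algebraMap E 𝓕 e = algebraMap E 𝓕 (g • e) := fun g e =>
    (algebraMap.coe_smul' g e 𝓕).symm
  let F : Subfield 𝓕 := Subfield.closure (algebraMap E 𝓕 '' s)
  have hFmem : ∀ y : F₀, algebraMap F₀ 𝓕 y ∈ F := by
    intro y
    obtain ⟨a, b, hb, rfl⟩ := IsFractionRing.div_surjective A₀ y
    rw [map_div₀, ← IsScalarTower.algebraMap_apply, ← IsScalarTower.algebraMap_apply]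
    apply F.div_mem
    · exact Subfield.subset_closure ⟨a, hs _ (fun g => a.2 g), rfl⟩
    · exact Subfield.subset_closure ⟨b, hs _ (fun g => b.2 g), rfl⟩
  let F' : IntermediateField F₀ 𝓕 := Subfield.toIntermediateField F hFmem
  have hxF : algebraMap E 𝓕 x ∈ F' := by
    rw [← IsGaloisGroup.fixedPoints_fixingSubgroup D F₀ 𝓕 F']
    rintro ⟨g, hg⟩
    change g • algebraMap E 𝓕 x = algebraMap E 𝓕 x
    rw [hsmul, hx g]
    intro e he
    rw [mem_fixingSubgroup_iff] at hg
    have h1 := hg (algebraMap E 𝓕 e) (Subfield.subset_closure ⟨e, he, rfl⟩)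
    rw [hsmul] at h1
    exact IsFractionRing.injective E 𝓕 h1
  obtain ⟨y, hy, z, hz, hyz⟩ := Subfield.mem_closure_iff.mp (show algebraMap E 𝓕 x ∈ F from hxF)
  rw [← RingHom.map_closure] at hy hz
  obtain ⟨a, ha, rfl⟩ := hy
  obtain ⟨b, hb, rfl⟩ := hz
  by_cases hb0 : b = 0
  · refine ⟨0, 1, Subring.zero_mem _, Subring.one_mem _, one_ne_zero, ?_⟩
    rw [hb0, map_zero, div_zero, eq_comm, map_eq_zero_iff _ (IsFractionRing.injective E 𝓕)] at hyz
    rw [hyz, zero_mul]
  · refine ⟨a, b, ha, hb, hb0, ?_⟩
    apply IsFractionRing.injective E 𝓕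
    have hb1 : algebraMap E 𝓕 b ≠ 0 := by
      rwa [Ne, map_eq_zero_iff _ (IsFractionRing.injective E 𝓕)]
    rw [map_mul, ← hyz, div_mul_cancel₀ _ hb1]

/-- If the completions agree, the extension is unramified with trivial residue extension. -/
theorem unram_of_bijective (T A : Type u) [CommRing T] [CommRing A] [IsLocalRing T] [IsLocalRing A]
    [IsNoetherianRing T] [IsNoetherianRing A] [Algebra T A]
    [Algebra (AdicCompletion (maximalIdeal T) T) (AdicCompletion (maximalIdeal A) A)]
    (hc : ∀ t : T, algebraMap (AdicCompletion (maximalIdeal T) T)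
      (AdicCompletion (maximalIdeal A) A) (algebraMap T _ t) = algebraMap A _ (algebraMap T A t))
    (hbij : Function.Bijective (algebraMap (AdicCompletion (maximalIdeal T) T)
      (AdicCompletion (maximalIdeal A) A)))
    [(maximalIdeal A).LiesOver (maximalIdeal T)] :
    (maximalIdeal T).map (algebraMap T A) = maximalIdeal A ∧
      Module.Finite (T ⧸ maximalIdeal T) (A ⧸ maximalIdeal A) ∧
      Algebra.IsSeparable (T ⧸ maximalIdeal T) (A ⧸ maximalIdeal A) := by
  have hff : Module.FaithfullyFlat A (AdicCompletion (maximalIdeal A) A) :=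
    Module.FaithfullyFlat.of_flat_of_isLocalHom
  let φ : AdicCompletion (maximalIdeal T) T ≃+* AdicCompletion (maximalIdeal A) A :=
    RingEquiv.ofBijective (algebraMap _ _) hbij
  have h1 : (maximalIdeal (AdicCompletion (maximalIdeal T) T)).map
      (algebraMap (AdicCompletion (maximalIdeal T) T) (AdicCompletion (maximalIdeal A) A)) =
      maximalIdeal (AdicCompletion (maximalIdeal A) A) := by
    have h2 : ((maximalIdeal (AdicCompletion (maximalIdeal T) T)).map
      (algebraMap (AdicCompletion (maximalIdeal T) T) (AdicCompletion (maximalIdeal A) A))).IsMaximal :=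
      (maximalIdeal.isMaximal _).map_bijective _ hbij
    exact IsLocalRing.eq_maximalIdeal h2
  refine ⟨?_, ?_⟩
  · apply Ideal.map_injective_of_faithfullyFlat (B := AdicCompletion (maximalIdeal A) A)
    rw [← AdicCompletion.maximalIdeal_eq_map, ← h1, AdicCompletion.maximalIdeal_eq_map, Ideal.map_map,
      Ideal.map_map]
    congr 1
    apply RingHom.ext
    intro t
    exact (hc t).symm
  · have h5 : IsLocalHom (algebraMap A (AdicCompletion (maximalIdeal A) A)) := inferInstance
    have h6 : (maximalIdeal (AdicCompletion (maximalIdeal A) A)).comap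
        (algebraMap A (AdicCompletion (maximalIdeal A) A)) = maximalIdeal A :=
      ((IsLocalRing.local_hom_TFAE (algebraMap A (AdicCompletion (maximalIdeal A) A))).out 0 4).mp h5
    have hsurj : Function.Surjective (algebraMap (T ⧸ maximalIdeal T) (A ⧸ maximalIdeal A)) := by
      intro y
      obtain ⟨a, rfl⟩ := Ideal.Quotient.mk_surjective y
      obtain ⟨t, ht⟩ := hbij.2 (algebraMap A _ a)
      obtain ⟨t', ht'⟩ : ∃ t' : T, t - algebraMap T _ t' ∈
          maximalIdeal (AdicCompletion (maximalIdeal T) T) := by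
        obtain ⟨t', ht'⟩ := K364.CplCore.exists_sub_mem (maximalIdeal T) (IsNoetherian.noetherian _) 1 t
        refine ⟨t', ?_⟩
        rw [AdicCompletion.maximalIdeal_eq_map]
        rwa [pow_one] at ht'
      refine ⟨Ideal.Quotient.mk _ t', ?_⟩
      change Ideal.Quotient.mk (maximalIdeal A) (algebraMap T A t') = _
      rw [eq_comm, Ideal.Quotient.eq, ← h6, Ideal.mem_comap, map_sub, ← ht, ← hc, ← map_sub, ← h1]
      exact Ideal.mem_map_of_mem _ ht'
    refine ⟨Module.Finite.of_surjective (Algebra.linearMap _ _) hsurj, ⟨fun y => ?_⟩⟩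
    obtain ⟨x, rfl⟩ := hsurj y
    let _ : Field (T ⧸ maximalIdeal T) := Ideal.Quotient.field _
    exact isSeparable_algebraMap x

end K364.GalQuot
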