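import Groth.Agent.S0271
import Mathlib.RingTheory.Unramified.LocalRing
import Mathlib.RingTheory.IsGaloisGroup.Basic
import Mathlib.RingTheory.Etale.Basic

/-!
A finite group acting on a local ring with trivial inertia: the ring is étale over the invariants.
-/

set_option autoImplicit false
universe u

namespace K364.InertiaEtale

theorem etale_of_inertia_eq_bot (R S G : Type u) [CommRing R] [CommRing S] [IsLocalRing S]
    [Algebra R S] [FaithfulSMul R S] [Group G] [Finite G] [MulSemiringAction G S]
    [SMulCommClass G R S] [Algebra.IsInvariant R S G] (n : Ideal S) [hn : n.IsMaximal]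
    (h : n.inertia G = ⊥) : Algebra.Etale R S := by
  obtain ⟨g, hg, het⟩ := Groth.Agent.S0271.result G S n
  -- the invariants of the inertia group are everything
  have hTtop : ∀ s : S, s ∈ FixedPoints.subring S (n.inertia G) := by
    intro s
    rintro ⟨σ, hσ⟩
    have h1 : σ = 1 := by
      rw [h] at hσ
      exact Subgroup.mem_bot.mp hσ
    subst h1
    exact one_smul G s
  let eT : FixedPoints.subring S (n.inertia G) ≃+* S :=
    RingEquiv.ofBijective (FixedPoints.subring S (n.inertia G)).subtype
      ⟨Subtype.val_injective, fun s => ⟨⟨s, hTtop s⟩, rfl⟩⟩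
  -- `R ≃ S ^ G`
  let f0 : R →+* FixedPoints.subring S G := (algebraMap R S).codRestrict _ (fun r σ => by
    change σ • algebraMap R S r = algebraMap R S r
    rw [smul_algebraMap])
  have hf0 : Function.Bijective f0 := by
    constructor
    · intro x y hxy
      exact FaithfulSMul.algebraMap_injective R S (congrArg Subtype.val hxy)
    · rintro ⟨s, hs⟩
      obtain ⟨r, hr⟩ := Algebra.IsInvariant.isInvariant (A := R) (B := S) (G := G) s hs
      exact ⟨r, Subtype.ext hr⟩
  let _ : Algebra R (FixedPoints.subring S G) := f0.toAlgebra
  have hRF : Algebra.Etale R (FixedPoints.subring S G) :=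
    Algebra.Etale.of_equiv (AlgEquiv.ofBijective (Algebra.ofId R _) hf0)
  let _ : Algebra R (Localization.Away g) :=
    ((algebraMap (FixedPoints.subring S G) (Localization.Away g)).comp f0).toAlgebra
  have : IsScalarTower R (FixedPoints.subring S G) (Localization.Away g) :=
    IsScalarTower.of_algebraMap_eq fun _ => rfl
  have hRL : Algebra.Etale R (Localization.Away g) :=
    Algebra.Etale.comp R (FixedPoints.subring S G) (Localization.Away g)
  -- `g` is a unit
  have hgu : IsUnit g := by
    have h1 : IsUnit (g : S) := by
      by_contra hcon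
      apply hg
      have h2 : (g : S) ∈ IsLocalRing.maximalIdeal S := (IsLocalRing.mem_maximalIdeal _).mpr hcon
      rw [← IsLocalRing.eq_maximalIdeal hn] at h2
      exact h2
    have h3 : IsUnit (eT.symm (g : S)) := h1.map eT.symm
    have h4 : eT.symm (g : S) = g := eT.symm_apply_apply g
    rwa [h4] at h3
  let eL : FixedPoints.subring S (n.inertia G) ≃ₐ[FixedPoints.subring S (n.inertia G)]
    Localization.Away g := IsLocalization.atUnits _ (Submonoid.powers g) (by
      rintro _ ⟨k, rfl⟩
      exact hgu.pow k)
  let φ : Localization.Away g ≃+* S := eL.toRingEquiv.symm.trans eT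
  let ψ : Localization.Away g ≃ₐ[R] S := AlgEquiv.ofRingEquiv (f := φ) (fun r => by
    change eT (eL.toRingEquiv.symm (algebraMap (FixedPoints.subring S G)
      (Localization.Away g) (f0 r))) = _
    rw [IsScalarTower.algebraMap_apply (FixedPoints.subring S G)
      (FixedPoints.subring S (n.inertia G)) (Localization.Away g)]
    have h5 : ∀ t : FixedPoints.subring S (n.inertia G),
        eL.toRingEquiv.symm (algebraMap _ (Localization.Away g) t) = t := by
      intro t
      rw [RingEquiv.symm_apply_eq]
      exact (eL.commutes t).symm
    rw [h5]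
    rfl)
  exact Algebra.Etale.of_equiv ψ

end K364.InertiaEtale
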