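import Groth.Agent.EtAlg.K364.FieldSetup
import Mathlib.FieldTheory.Minpoly.IsIntegrallyClosed

/-!
Intersecting a local ring of an integral closure with a subfield.
-/

set_option autoImplicit false
universe u
open IsLocalRing Polynomial

namespace K364.FieldSetup

variable (R K X Ω : Type*) [CommRing R] [IsDomain R] [Field K] [Field X] [Field Ω]
  [Algebra R K] [IsFractionRing R K] [Algebra K X] [FiniteDimensional K X] [Algebra X Ω]
  [Algebra R X] [IsScalarTower R K X] [Algebra R Ω] [IsScalarTower R X Ω]

include K in
/-- If `z ∈ X` has a denominator outside `𝔪` in the integral closure in `Ω`, then it has one in the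
integral closure in `X`. -/
theorem exists_denominator (𝔪 : Ideal (integralClosure R Ω)) [𝔪.IsPrime] (z : X)
    (a b : integralClosure R Ω) (hb : b ∉ 𝔪) (h : algebraMap X Ω z * (b : Ω) = a) :
    ∃ c d : integralClosure R X, toB R X Ω d ∉ 𝔪 ∧ z * (d : X) = c := by
  classical
  have i1 : IsIntegrallyClosed (integralClosure R X) :=
    integralClosure.isIntegrallyClosedOfFiniteExtension K
  have i2 : IsFractionRing (integralClosure R X) X :=
    integralClosure.isFractionRing_of_finite_extension K X
  by_cases hz : z = 0
  · refine ⟨0, 1, ?_, by simp [hz]⟩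
    rw [map_one]
    exact fun h1 => Ideal.IsPrime.ne_top ‹_› ((Ideal.eq_top_iff_one _).mpr h1)
  have hbC : IsIntegral (integralClosure R X) (b : Ω) :=
    IsIntegral.tower_top (R := R) (A := integralClosure R X) b.2
  have haC : IsIntegral (integralClosure R X) (a : Ω) :=
    IsIntegral.tower_top (R := R) (A := integralClosure R X) a.2
  have hp : minpoly X (b : Ω) = (minpoly (integralClosure R X) (b : Ω)).map
      (algebraMap (integralClosure R X) X) :=
    minpoly.isIntegrallyClosed_eq_field_fractions' X hbC
  have hq : minpoly X (a : Ω) = (minpoly (integralClosure R X) (a : Ω)).map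
      (algebraMap (integralClosure R X) X) :=
    minpoly.isIntegrallyClosed_eq_field_fractions' X haC
  have hza : (a : Ω) = z • (b : Ω) := by rw [Algebra.smul_def]; exact h.symm
  have hscale : minpoly X (a : Ω) = (minpoly X (b : Ω)).scaleRoots z := by
    rw [hza]
    exact IsIntegrallyClosed.minpoly_smul hz hbC.tower_top
  set p := minpoly (integralClosure R X) (b : Ω) with hpdef
  set q := minpoly (integralClosure R X) (a : Ω) with hqdef
  have hmonic : p.Monic := minpoly.monic hbC
  have hcoeff : ∀ i, ((q.coeff i : integralClosure R X) : X) =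
      ((p.coeff i : integralClosure R X) : X) * z ^ (p.natDegree - i) := by
    intro i
    have h1 := congrArg (fun r => r.coeff i) hscale
    simp only [hp, hq, coeff_map, coeff_scaleRoots] at h1
    rw [natDegree_map_eq_of_injective (IsFractionRing.injective _ _)] at h1
    exact h1
  obtain ⟨i, hi, hip⟩ : ∃ i, i < p.natDegree ∧ toB R X Ω (p.coeff i) ∉ 𝔪 := by
    by_contra! H
    have h0 : p.eval₂ (toB R X Ω) b = 0 := by
      apply Subtype.ext
      have h1 : aeval (b : Ω) p = 0 := minpoly.aeval _ _
      have h2 : (algebraMap (integralClosure R Ω) Ω) (p.eval₂ (toB R X Ω) b) =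
          p.eval₂ ((algebraMap (integralClosure R Ω) Ω).comp (toB R X Ω)) (b : Ω) :=
        Polynomial.hom_eval₂ _ _ _ _
      exact h2.trans h1
    rw [Polynomial.eval₂_eq_sum_range, Finset.sum_range_succ] at h0
    have h1 : p.coeff p.natDegree = 1 := hmonic
    rw [h1, map_one, one_mul] at h0
    have h2 : b ^ p.natDegree ∈ 𝔪 := by
      rw [eq_neg_iff_add_eq_zero.mpr ((add_comm _ _).trans h0)]
      exact 𝔪.neg_mem (𝔪.sum_mem (fun i hi => 𝔪.mul_mem_right _ (H i (Finset.mem_range.mp hi))))
    exact hb (Ideal.IsPrime.mem_of_pow_mem ‹_› _ h2)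
  have hint : IsIntegral (integralClosure R X) (z * ((p.coeff i : integralClosure R X) : X)) := by
    apply IsIntegral.of_pow (n := p.natDegree - i) (by omega)
    have h3 : (z * ((p.coeff i : integralClosure R X) : X)) ^ (p.natDegree - i) =
        algebraMap (integralClosure R X) X ((p.coeff i) ^ (p.natDegree - i - 1) * q.coeff i) := by
      rw [map_mul, map_pow]
      change _ = ((p.coeff i : integralClosure R X) : X) ^ _ * ((q.coeff i : integralClosure R X) : X)
      rw [hcoeff, mul_pow]
      obtain ⟨k, hk⟩ : ∃ k, p.natDegree - i = k + 1 := ⟨p.natDegree - i - 1, by omega⟩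
      rw [hk, Nat.add_sub_cancel]
      ring
    rw [h3]
    exact isIntegral_algebraMap
  obtain ⟨c, hc⟩ := IsIntegrallyClosed.algebraMap_eq_of_integral hint
  exact ⟨c, p.coeff i, hip, hc.symm⟩

end K364.FieldSetup
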