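import Mathlib.FieldTheory.KummerExtension
import Mathlib.RingTheory.ClassGroup.Basic
import Mathlib.RingTheory.DedekindDomain.Ideal.Basic
import Mathlib.FieldTheory.Galois.Basic
import Mathlib.RingTheory.IntegralDomain

/-!
Kummer extensions attached to torsion classes.

* `eq_of_pow_eq_pow`: the group of invertible fractional ideals of a Dedekind domain is torsion free.
* `kummer_pow`: if `L = K(α)` with `α ^ n ∈ K`, `K ∋ ζ_n`, then `L / K` is Galois with cyclic group,
  `m = [L : K]` divides `n` and `α ^ m ∈ K`.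
-/

set_option autoImplicit false
universe u v w
open Polynomial
open scoped nonZeroDivisors

namespace K364.Kummer

section frac

variable {A : Type u} {K : Type v} [CommRing A] [IsDedekindDomain A] [Field K] [Algebra A K]
  [IsFractionRing A K]

theorem eq_one_of_pow_eq_one (x : (FractionalIdeal A⁰ K)ˣ) {k : ℕ} (hk : k ≠ 0)
    (h : x ^ k = 1) : x = 1 := by
  obtain ⟨k, rfl⟩ := Nat.exists_eq_succ_of_ne_zero hk
  set S : FractionalIdeal A⁰ K := ∑ i ∈ Finset.range (k + 1), (x : FractionalIdeal A⁰ K) ^ i with hS
  have h1 : (x : FractionalIdeal A⁰ K) ^ (k + 1) = 1 := by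
    rw [← Units.val_pow_eq_pow_val, ← Nat.succ_eq_add_one, h, Units.val_one]
  have h2 : (x : FractionalIdeal A⁰ K) * S = S := by
    have e1 : (x : FractionalIdeal A⁰ K) * S =
        ∑ i ∈ Finset.range k, (x : FractionalIdeal A⁰ K) ^ (i + 1) + 1 := by
      rw [hS, Finset.mul_sum, Finset.sum_range_succ]
      congr 1
      · exact Finset.sum_congr rfl fun i _ => (pow_succ' _ _).symm
      · rw [← pow_succ', h1]
    rw [e1, hS, Finset.sum_range_succ', pow_zero]
  have h3 : S ≠ 0 := by
    intro h0
    have h4 : (1 : FractionalIdeal A⁰ K) ≤ S := by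
      rw [hS, Finset.sum_range_succ', pow_zero]
      exact le_add_self
    rw [h0] at h4
    exact one_ne_zero (le_antisymm h4 bot_le)
  apply Units.ext
  rw [Units.val_one]
  have h5 := congrArg (· * S⁻¹) h2
  simpa only [mul_assoc, mul_inv_cancel₀ h3, mul_one] using h5

theorem eq_of_pow_eq_pow (x y : (FractionalIdeal A⁰ K)ˣ) {k : ℕ} (hk : k ≠ 0)
    (h : x ^ k = y ^ k) : x = y := by
  rw [← div_eq_one]
  apply eq_one_of_pow_eq_one _ hk
  rw [div_pow, h, div_self']

end frac

section field

variable {K : Type v} {L : Type w} [Field K] [Field L] [Algebra K L]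

open IntermediateField in
theorem kummer_pow (n : ℕ) (hn : (n : K) ≠ 0) (ζ : K) (hζ : IsPrimitiveRoot ζ n) (f : K)
    (hf : f ≠ 0) (α : L) (hα : α ^ n = algebraMap K L f) (hgen : IntermediateField.adjoin K {α} = ⊤) :
    IsGalois K L ∧ IsCyclic (L ≃ₐ[K] L) ∧ Module.finrank K L ∣ n ∧
      ∃ g : K, α ^ (Module.finrank K L) = algebraMap K L g := by
  classical
  have hn0 : n ≠ 0 := by rintro rfl; simp at hn
  have hnpos : 0 < n := Nat.pos_of_ne_zero hn0
  have : NeZero n := ⟨hn0⟩
  have hζL : IsPrimitiveRoot (algebraMap K L ζ) n := hζ.map_of_injective (algebraMap K L).injective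
  have hsep : (X ^ n - C f).Separable := separable_X_pow_sub_C f hn hf
  have hmap : (X ^ n - C f).map (algebraMap K L) = X ^ n - C (algebraMap K L f) := by simp
  have hsplit : IsSplittingField K L (X ^ n - C f) := by
    constructor
    · rw [hmap]
      exact X_pow_sub_C_splits_of_isPrimitiveRoot hζL hα
    · have hαr : α ∈ (X ^ n - C f).rootSet L := by
        rw [Polynomial.mem_rootSet]
        refine ⟨X_pow_sub_C_ne_zero hnpos f, ?_⟩
        simp [hα]
      have hint : IsIntegral K α := by
        refine ⟨X ^ n - C f, monic_X_pow_sub_C f hn0, ?_⟩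
        simp [hα]
      have h1 : Algebra.adjoin K {α} = ⊤ := by
        rw [← IntermediateField.adjoin_simple_toSubalgebra_of_isAlgebraic hint.isAlgebraic, hgen]
        rfl
      rw [eq_top_iff, ← h1]
      exact Algebra.adjoin_mono (by simpa using hαr)
  have hgal : IsGalois K L := IsGalois.of_separable_splitting_field hsep
  have hfd : FiniteDimensional K L := IsSplittingField.finiteDimensional L (X ^ n - C f)
  have hα0 : α ≠ 0 := by
    rintro rfl
    rw [zero_pow hn0] at hα
    exact hf ((map_eq_zero (algebraMap K L)).mp hα.symm)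
  -- the Kummer character
  have hχ : ∀ σ : L ≃ₐ[K] L, ∃ c : K, σ α = algebraMap K L c * α ∧ c ^ n = 1 := by
    intro σ
    have h1 : (σ α / α) ^ n = 1 := by
      rw [div_pow, ← map_pow, hα, AlgEquiv.commutes, div_self]
      rwa [Ne, map_eq_zero]
    obtain ⟨i, -, hi⟩ := hζL.eq_pow_of_pow_eq_one h1
    refine ⟨ζ ^ i, ?_, ?_⟩
    · rw [map_pow, hi, div_mul_cancel₀ _ hα0]
    · rw [← pow_mul, mul_comm, pow_mul, hζ.pow_eq_one, one_pow]
  choose c hc hcn using hχ
  have hcinj : Function.Injective (algebraMap K L) := (algebraMap K L).injective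
  let χ : (L ≃ₐ[K] L) →* K :=
    { toFun := c
      map_one' := by
        apply hcinj
        apply mul_right_cancel₀ hα0
        rw [← hc, AlgEquiv.one_apply, map_one, one_mul]
      map_mul' := fun σ τ => by
        apply hcinj
        apply mul_right_cancel₀ hα0
        rw [← hc, AlgEquiv.mul_apply, hc τ, map_mul, AlgEquiv.commutes, hc σ, map_mul]
        ring }
  have hχinj : Function.Injective χ := by
    intro σ τ h
    have h' : c σ = c τ := h
    have hst : σ α = τ α := by rw [hc, hc, h']
    have h2 : ∀ x : L, σ x = τ x := by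
      intro x
      have hx : x ∈ IntermediateField.adjoin K {α} := by rw [hgen]; trivial
      induction hx using IntermediateField.adjoin_induction with
      | mem x hx =>
        rw [Set.mem_singleton_iff] at hx
        rw [hx, hst]
      | algebraMap x => rw [AlgEquiv.commutes, AlgEquiv.commutes]
      | add x y _ _ hx hy => rw [map_add, map_add, hx, hy]
      | inv x _ hx => rw [map_inv₀, map_inv₀, hx]
      | mul x y _ _ hx hy => rw [map_mul, map_mul, hx, hy]
    exact AlgEquiv.ext h2
  have hcyc : IsCyclic (L ≃ₐ[K] L) := isCyclic_of_injective_ringHom χ hχinj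
  refine ⟨hgal, hcyc, ?_, ?_⟩
  · obtain ⟨σ, hσ⟩ := hcyc.exists_generator
    rw [← IsGalois.card_aut_eq_finrank, ← orderOf_eq_card_of_forall_mem_zpowers hσ]
    apply orderOf_dvd_of_pow_eq_one
    apply hχinj
    rw [map_pow, map_one]
    exact hcn σ
  · have h1 := (IsGalois.mem_range_algebraMap_iff_fixed (α ^ (Module.finrank K L))).mpr (by
      intro σ
      rw [map_pow, hc σ, mul_pow, ← map_pow]
      have h2 : c σ ^ (Module.finrank K L) = 1 := by
        change χ σ ^ _ = 1
        rw [← map_pow, ← IsGalois.card_aut_eq_finrank, pow_card_eq_one', map_one]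
      rw [h2, map_one, one_mul])
    obtain ⟨g, hg⟩ := h1
    exact ⟨g, hg.symm⟩

end field

end K364.Kummer
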