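import Groth.Agent.EtAlg.K364.MilnorPair
import Groth.Agent.LoccohA.TorLES

/-!
Milnor squares and `Tor₁`.

* `theta`: for `0 → K → P → L → 0` with `P` flat, the injection `Tor₁(L, N) → K ⊗ N` onto the kernel
  of `K ⊗ N → P ⊗ N`, natural in `N`.
* `pair_iff`: the diagram chase.
-/

set_option autoImplicit false
universe u
open TensorProduct CategoryTheory CategoryTheory.Limits MonoidalCategory

namespace K364.TorPair

open Groth.Agent.LoccohA.TorLES

section theta

variable {R : Type u} [CommRing R] {S : ShortComplex (ModuleCat.{u} R)} (hS : S.ShortExact)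

/-- `Tor₁(L, N) → K ⊗ N`. -/
noncomputable def theta (N : ModuleCat.{u} R) :
    ((Tor (ModuleCat.{u} R) 1).obj S.X₃).obj N ⟶ S.X₁ ⊗ N :=
  torδ hS N 0 ≫ (tor0Iso S.X₁ N).hom

theorem theta_naturality {N N' : ModuleCat.{u} R} (g : N ⟶ N') :
    ((Tor (ModuleCat.{u} R) 1).obj S.X₃).map g ≫ theta hS N' = theta hS N ≫ (S.X₁ ◁ g) := by
  have h1 := torδ_naturality_right hS g 0
  rw [theta, theta, Category.assoc, ← tor0Iso_hom_naturality_right, ← Category.assoc, ← Category.assoc]
  exact congrArg (· ≫ (tor0Iso S.X₁ N').hom) h1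

theorem theta_injective [Module.Flat R S.X₂] (N : ModuleCat.{u} R) :
    Function.Injective (theta hS N).hom := by
  have h1 := exact_map_δ hS N 0
  have h2 : Subsingleton (((Tor (ModuleCat.{u} R) (0 + 1)).obj S.X₂).obj N) :=
    subsingleton_tor_of_flat S.X₂ N 0
  have h3 : Function.Injective (torδ hS N 0).hom := by
    rw [injective_iff_map_eq_zero]
    intro x hx
    obtain ⟨y, rfl⟩ := (h1 x).mp hx
    rw [Subsingleton.elim y 0, map_zero]
  have h4 : Function.Injective (tor0Iso S.X₁ N).hom.hom :=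
    ((tor0Iso S.X₁ N).toLinearEquiv).injective
  rw [theta, ModuleCat.hom_comp]
  exact h4.comp h3

theorem theta_exact (N : ModuleCat.{u} R) :
    Function.Exact (theta hS N).hom (S.f ▷ N).hom := by
  have h1 := exact_δ_map hS N 0
  have h2 := tor0Iso_hom_naturality_left S.f N
  intro x
  obtain ⟨x', rfl⟩ := (tor0Iso S.X₁ N).toLinearEquiv.surjective x
  have e1 : (S.f ▷ N).hom ((tor0Iso S.X₁ N).hom.hom x') =
      (tor0Iso S.X₂ N).hom.hom ((((Tor (ModuleCat.{u} R) 0).map S.f).app N).hom x') := by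
    rw [← LinearMap.comp_apply, ← LinearMap.comp_apply, ← ModuleCat.hom_comp, ← ModuleCat.hom_comp,
      h2]
  change (S.f ▷ N).hom ((tor0Iso S.X₁ N).hom.hom x') = 0 ↔ _
  rw [e1]
  have h4 : ∀ y, (tor0Iso S.X₂ N).hom.hom y = 0 ↔ y = 0 :=
    fun y => ((tor0Iso S.X₂ N).toLinearEquiv).map_eq_zero_iff
  rw [h4, h1 x']
  constructor
  · rintro ⟨y, rfl⟩
    exact ⟨y, rfl⟩
  · rintro ⟨y, hy⟩
    refine ⟨y, ?_⟩
    apply (tor0Iso S.X₁ N).toLinearEquiv.injective
    exact hy

/-- A short exact sequence of modules as a short complex. -/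
abbrev sc {M₁ M₂ M₃ : Type u} [AddCommGroup M₁] [Module R M₁] [AddCommGroup M₂] [Module R M₂]
    [AddCommGroup M₃] [Module R M₃] (f : M₁ →ₗ[R] M₂) (g : M₂ →ₗ[R] M₃) (h : Function.Exact f g) :
    ShortComplex (ModuleCat.{u} R) :=
  ShortComplex.mk (ModuleCat.ofHom f) (ModuleCat.ofHom g)
    (by rw [← ModuleCat.ofHom_comp, h.linearMap_comp_eq_zero]; rfl)

theorem sc_shortExact {M₁ M₂ M₃ : Type u} [AddCommGroup M₁] [Module R M₁] [AddCommGroup M₂]
    [Module R M₂] [AddCommGroup M₃] [Module R M₃] (f : M₁ →ₗ[R] M₂) (g : M₂ →ₗ[R] M₃)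
    (hf : Function.Injective f) (h : Function.Exact f g) (hg : Function.Surjective g) :
    (sc f g h).ShortExact := by
  have : Mono (sc f g h).f := (ModuleCat.mono_iff_injective _).2 hf
  have : Epi (sc f g h).g := (ModuleCat.epi_iff_surjective _).2 hg
  exact { exact := (ShortComplex.ShortExact.moduleCat_exact_iff_function_exact _).2 h }

theorem epi_desc_iff {X Y Z : ModuleCat.{u} R} (f : X ⟶ Z) (g : Y ⟶ Z) :
    Epi (biprod.desc f g) ↔ ∀ t : Z, ∃ x y, f.hom x + g.hom y = t := by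
  rw [ModuleCat.epi_iff_surjective]
  constructor
  · intro h t
    obtain ⟨z, rfl⟩ := h t
    refine ⟨(biprod.fst : X ⊞ Y ⟶ X).hom z, (biprod.snd : X ⊞ Y ⟶ Y).hom z, ?_⟩
    have h1 : biprod.desc f g = biprod.fst ≫ f + biprod.snd ≫ g := by
      apply biprod.hom_ext' <;> simp
    rw [h1]
    rfl
  · intro h t
    obtain ⟨x, y, rfl⟩ := h t
    refine ⟨(biprod.inl : X ⟶ X ⊞ Y).hom x + (biprod.inr : Y ⟶ X ⊞ Y).hom y, ?_⟩
    have h1 : (biprod.inl : X ⟶ X ⊞ Y) ≫ biprod.desc f g = f := biprod.inl_desc _ _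
    have h2 : (biprod.inr : Y ⟶ X ⊞ Y) ≫ biprod.desc f g = g := biprod.inr_desc _ _
    rw [map_add]
    exact congrArg₂ (· + ·) (congrArg (fun k => k.hom x) h1) (congrArg (fun k => k.hom y) h2)

end theta

section chase

variable {B' B A' A : Type u} [CommRing B'] [CommRing B] [CommRing A'] [CommRing A]
  [Algebra B' B] [Algebra B' A'] [Algebra B A] [Algebra A' A] [Algebra B' A]
  [IsScalarTower B' B A] [IsScalarTower B' A' A]

theorem rTensor_comm {R M N Q : Type*} [CommRing R] [AddCommGroup M] [Module R M] [AddCommGroup N]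
    [Module R N] [AddCommGroup Q] [Module R Q] (f : N →ₗ[R] Q) (x : M ⊗[R] N) :
    f.rTensor M (TensorProduct.comm R M N x) = TensorProduct.comm R M Q (f.lTensor M x) := by
  induction x using TensorProduct.induction_on with
  | zero => simp
  | tmul m n => simp
  | add x y hx hy => simp only [map_add, hx, hy]

/-- The version of `exists_of_pair` for `L ⊗ B`. -/
theorem exists_of_pair' (hsq : EtMil.IsFibreSquare B' B A' A) (L : Type u) [AddCommGroup L]
    [Module B' L] (x : L ⊗[B'] B) (y : L ⊗[B'] A')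
    (h : (IsScalarTower.toAlgHom B' B A).toLinearMap.lTensor L x =
      (IsScalarTower.toAlgHom B' A' A).toLinearMap.lTensor L y) :
    ∃ l : L, l ⊗ₜ[B'] (1 : B) = x ∧ l ⊗ₜ[B'] (1 : A') = y := by
  obtain ⟨l, h1, h2⟩ := MilnorPair.exists_of_pair L hsq (TensorProduct.comm B' L B x)
    (TensorProduct.comm B' L A' y) (by
      rw [rTensor_comm, rTensor_comm, h])
  refine ⟨l, ?_, ?_⟩
  · apply (TensorProduct.comm B' L B).injective
    rw [← h1, TensorProduct.comm_tmul]
  · apply (TensorProduct.comm B' L A').injective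
    rw [← h2, TensorProduct.comm_tmul]

theorem eq_zero_of_pair' (hsq : EtMil.IsFibreSquare B' B A' A) (L : Type u) [AddCommGroup L]
    [Module B' L] [Module.Flat B' L] (l : L) (h1 : l ⊗ₜ[B'] (1 : B) = 0)
    (h2 : l ⊗ₜ[B'] (1 : A') = 0) : l = 0 := by
  have hb := MilnorPair.unit_phi_bijective (B := B) (A' := A') (A := A) L hsq
  apply hb.1
  rw [map_zero]
  apply Groth.Agent.Etalg.Milnor2.glue_ext
  · change (1 : B) ⊗ₜ[B'] l = 0
    rw [← TensorProduct.comm_tmul, h1, map_zero]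
  · change (1 : A') ⊗ₜ[B'] l = 0
    rw [← TensorProduct.comm_tmul, h2, map_zero]

variable {K P L : Type u} [AddCommGroup K] [Module B' K] [AddCommGroup P] [Module B' P]
  [AddCommGroup L] [Module B' L]

/-- The diagram chase: for `0 → K → P → L → 0` with `P` flat, the unit of `L` is injective iff
`T(B) ⊕ T(A') → T(A)` is surjective, where `T(N) = ker (K ⊗ N → P ⊗ N)`. -/
theorem pair_iff (hsq : EtMil.IsFibreSquare B' B A' A) (i : K →ₗ[B'] P) (q : P →ₗ[B'] L)
    (hiq : Function.Exact i q) (hq : Function.Surjective q)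
    [Module.Flat B' P] :
    (∀ l : L, l ⊗ₜ[B'] (1 : B) = 0 → l ⊗ₜ[B'] (1 : A') = 0 → l = 0) ↔
    ∀ t : K ⊗[B'] A, i.rTensor A t = 0 → ∃ (x : K ⊗[B'] B) (y : K ⊗[B'] A'),
      i.rTensor B x = 0 ∧ i.rTensor A' y = 0 ∧
      (IsScalarTower.toAlgHom B' B A).toLinearMap.lTensor K x +
      (IsScalarTower.toAlgHom B' A' A).toLinearMap.lTensor K y = t := by
  set f := (IsScalarTower.toAlgHom B' B A).toLinearMap with hf
  set g := (IsScalarTower.toAlgHom B' A' A).toLinearMap with hg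
  have hg_surj : Function.Surjective g := hsq.1
  have hcf : ∀ x : K ⊗[B'] B, i.rTensor A (f.lTensor K x) = f.lTensor P (i.rTensor B x) := by
    intro x
    rw [← LinearMap.comp_apply, ← LinearMap.comp_apply, LinearMap.rTensor_comp_lTensor,
      LinearMap.lTensor_comp_rTensor]
  have hcg : ∀ x : K ⊗[B'] A', i.rTensor A (g.lTensor K x) = g.lTensor P (i.rTensor A' x) := by
    intro x
    rw [← LinearMap.comp_apply, ← LinearMap.comp_apply, LinearMap.rTensor_comp_lTensor,
      LinearMap.lTensor_comp_rTensor]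
  have hf1 : f 1 = 1 := map_one (IsScalarTower.toAlgHom B' B A)
  have hg1 : g 1 = 1 := map_one (IsScalarTower.toAlgHom B' A' A)
  constructor
  · intro h t ht
    obtain ⟨y', hy'⟩ := LinearMap.lTensor_surjective K hg_surj t
    have h1 : g.lTensor P (i.rTensor A' y') = 0 := by rw [← hcg, hy', ht]
    obtain ⟨p, hp1, hp2⟩ := exists_of_pair' (B := B) (A := A) hsq P 0 (i.rTensor A' y')
      (by rw [map_zero]; exact h1.symm)
    have hl : q p = 0 := by
      apply h
      · have := congrArg (q.rTensor B) hp1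
        rwa [LinearMap.rTensor_tmul, map_zero] at this
      · have := congrArg (q.rTensor A') hp2
        rw [LinearMap.rTensor_tmul, ← LinearMap.comp_apply, ← LinearMap.rTensor_comp,
          hiq.linearMap_comp_eq_zero, LinearMap.rTensor_zero, LinearMap.zero_apply] at this
        exact this
    obtain ⟨k, rfl⟩ := (hiq p).mp hl
    refine ⟨k ⊗ₜ 1, y' - k ⊗ₜ 1, ?_, ?_, ?_⟩
    · rw [LinearMap.rTensor_tmul, hp1]
    · rw [map_sub, LinearMap.rTensor_tmul, hp2, sub_self]
    · rw [map_sub, LinearMap.lTensor_tmul, LinearMap.lTensor_tmul, hf1, hg1, hy']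
      abel
  · intro h l hl1 hl2
    obtain ⟨p, rfl⟩ := hq l
    have hex : ∀ (C : Type u) [CommRing C] [Algebra B' C],
        Function.Exact (i.rTensor C) (q.rTensor C) := fun C _ _ => rTensor_exact C hiq hq
    obtain ⟨x, hx⟩ := (hex B (p ⊗ₜ 1)).mp (by rw [LinearMap.rTensor_tmul]; exact hl1)
    obtain ⟨y, hy⟩ := (hex A' (p ⊗ₜ 1)).mp (by rw [LinearMap.rTensor_tmul]; exact hl2)
    obtain ⟨x0, y0, hx0, hy0, hxy⟩ := h (f.lTensor K x - g.lTensor K y) (by
      rw [map_sub, hcf, hcg, hx, hy, LinearMap.lTensor_tmul, LinearMap.lTensor_tmul, hf1, hg1,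
        sub_self])
    obtain ⟨k, hk1, hk2⟩ := exists_of_pair' (B := B) (A := A) hsq K (x - x0) (y + y0) (by
      change f.lTensor K (x - x0) = g.lTensor K (y + y0)
      rw [map_sub, map_add]
      rw [eq_comm, ← sub_eq_iff_eq_add'] at hxy
      rw [← hxy]; abel)
    have h0 : p - i k = 0 := by
      apply eq_zero_of_pair' (B := B) (A' := A') (A := A) hsq P
      · rw [sub_tmul, ← LinearMap.rTensor_tmul, hk1, map_sub, hx0, hx, sub_zero, sub_self]
      · rw [sub_tmul, ← LinearMap.rTensor_tmul, hk2, map_add, hy0, hy, add_zero, sub_self]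
    rw [sub_eq_zero] at h0
    rw [h0]
    exact hiq.apply_apply_eq_zero k

/-- The unit of the glueing adjunction is injective at `L` iff `Tor₁(L, B) ⊕ Tor₁(L, A') → Tor₁(L, A)`
is surjective. -/
theorem unit_injective_iff_epi (hsq : EtMil.IsFibreSquare B' B A' A) (i : K →ₗ[B'] P)
    (q : P →ₗ[B'] L) (hi : Function.Injective i) (hiq : Function.Exact i q)
    (hq : Function.Surjective q) [hP : Module.Flat B' P] :
    (∀ l : L, ((1 : B) ⊗ₜ[B'] l : B ⊗[B'] L) = 0 → ((1 : A') ⊗ₜ[B'] l : A' ⊗[B'] L) = 0 → l = 0) ↔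
    Epi (biprod.desc
      (((Tor (ModuleCat.{u} B') 1).obj (ModuleCat.of B' L)).map
        (ModuleCat.ofHom (IsScalarTower.toAlgHom B' B A).toLinearMap))
      (((Tor (ModuleCat.{u} B') 1).obj (ModuleCat.of B' L)).map
        (ModuleCat.ofHom (IsScalarTower.toAlgHom B' A' A).toLinearMap))) := by
  have hS : (sc i q hiq).ShortExact := sc_shortExact i q hi hiq hq
  have hflat : Module.Flat B' (sc i q hiq).X₂ := hP
  have e1 : (∀ l : L, ((1 : B) ⊗ₜ[B'] l : B ⊗[B'] L) = 0 →
      ((1 : A') ⊗ₜ[B'] l : A' ⊗[B'] L) = 0 → l = 0) ↔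
      (∀ l : L, l ⊗ₜ[B'] (1 : B) = 0 → l ⊗ₜ[B'] (1 : A') = 0 → l = 0) := by
    have h : ∀ (C : Type u) [CommRing C] [Algebra B' C] (l : L),
        (1 : C) ⊗ₜ[B'] l = 0 ↔ l ⊗ₜ[B'] (1 : C) = 0 := by
      intro C _ _ l
      rw [← (TensorProduct.comm B' C L).map_eq_zero_iff, TensorProduct.comm_tmul]
    simp only [h]
  rw [e1, pair_iff hsq i q hiq hq, epi_desc_iff]
  have hnat : ∀ {C D : Type u} [CommRing C] [CommRing D] [Algebra B' C] [Algebra B' D]
      (f : C →ₗ[B'] D) (x : ((Tor (ModuleCat.{u} B') 1).obj (ModuleCat.of B' L)).obj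
        (ModuleCat.of B' C)),
      (theta hS (ModuleCat.of B' D)).hom
        ((((Tor (ModuleCat.{u} B') 1).obj (ModuleCat.of B' L)).map (ModuleCat.ofHom f)).hom x) =
      f.lTensor K ((theta hS (ModuleCat.of B' C)).hom x) := by
    intro C D _ _ _ _ f x
    exact congrArg (fun k => k.hom x) (theta_naturality hS (ModuleCat.ofHom f))
  constructor
  · intro h t
    have ht : i.rTensor A ((theta hS (ModuleCat.of B' A)).hom t) = 0 :=
      (theta_exact hS (ModuleCat.of B' A)).apply_apply_eq_zero t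
    obtain ⟨x, y, hx, hy, hxy⟩ := h _ ht
    obtain ⟨x, rfl⟩ := (theta_exact hS (ModuleCat.of B' B) x).mp hx
    obtain ⟨y, rfl⟩ := (theta_exact hS (ModuleCat.of B' A') y).mp hy
    refine ⟨x, y, ?_⟩
    apply theta_injective hS (ModuleCat.of B' A)
    rw [map_add, ← hxy]
    exact congrArg₂ (· + ·) (hnat _ _) (hnat _ _)
  · intro h t ht
    obtain ⟨t, rfl⟩ := (theta_exact hS (ModuleCat.of B' A) t).mp ht
    obtain ⟨x, y, rfl⟩ := h t
    refine ⟨(theta hS (ModuleCat.of B' B)).hom x, (theta hS (ModuleCat.of B' A')).hom y,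
      (theta_exact hS (ModuleCat.of B' B)).apply_apply_eq_zero x,
      (theta_exact hS (ModuleCat.of B' A')).apply_apply_eq_zero y, ?_⟩
    rw [map_add]
    exact congrArg₂ (· + ·) (hnat _ _).symm (hnat _ _).symm

end chase

end K364.TorPair
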